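import Groth.Agent.L24.Degen.Schur
import Groth.Agent.L13.BlowTwo.Vanish
import Groth.Agent.L13.Fitting.Fibre
import Groth.Agent.L15.FittSheaf
import Groth.Agent.L16.HomSh.FreeFrames
import Groth.Agent.L16.CohKernel
import Groth.Agent.L16.Devissage
import Groth.Agent.L16.NegPow.Gen
import Groth.Agent.L17.BC.Cochains
import Groth.Agent.L18.GlobGen
import Groth.Prelude.Def_KLin
import Groth.Prelude.Def_DCoh4

/-!
# Matrices of homomorphisms of vector bundles and Fitting ideals of their cokernels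
-/

set_option autoImplicit false
set_option linter.style.haveILetI false
set_option backward.isDefEq.respectTransparency.types false
set_option backward.isDefEq.respectTransparency false

universe u

open CategoryTheory CategoryTheory.Limits AlgebraicGeometry TopologicalSpace Opposite

noncomputable section

namespace Groth.L24.Degen

open Groth.L18.Frame (rs ro rs_rs ro_ro rs_smul ro_self rs_self)
open Groth.L19.ProjBdl (IsBasisOn lc coord lc_coord coord_eq app_lc)
open Groth.L16.HomSh (Sec homMod secEquiv ev toHom unitBasis ev_lc_unitBasis)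

theorem exists_basisOn_rank {X : Scheme.{u}} {M : X.Modules} {e : ℕ} (hM : FlatMod.IsFinLocFreeOfRank e M) (x : X)
    (O : X.Opens) (hx : x ∈ O) :
    ∃ (V : X.Opens) (b : Fin e → Γ(M, V)), IsAffineOpen V ∧ x ∈ V ∧ V ≤ O ∧ IsBasisOn M V b := by
  obtain ⟨U, hxU, ⟨i⟩⟩ := hM x
  obtain ⟨s, hs⟩ := Groth.L17.FinLocBases.exists_isBasis M i
  have hU : U.ι ''ᵁ ⊤ = U := (Scheme.Hom.image_top_eq_opensRange U.ι).trans U.opensRange_ι
  obtain ⟨_, ⟨V, hV, rfl⟩, hxV, hVO⟩ :=
    X.isBasis_affineOpens.exists_subset_of_mem_open (show x ∈ O ⊓ U.ι ''ᵁ ⊤ from ⟨hx, hU.ge hxU⟩) (O ⊓ U.ι ''ᵁ ⊤).2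
  exact ⟨V, _, hV, hxV, fun y hy => (hVO hy).1,
    (Groth.L19.ProjBdl.isBasisOn_of_locBases hs).mono fun y hy => (hVO hy).2⟩

/-- The Fitting ideals of a module presented by a matrix are ideals of minors. -/
theorem fitting_eq_minorIdeal {R : Type u} [CommRing R] {N : Type u} [AddCommGroup N] [Module R N] {e f : ℕ}
    (y : Fin f → N) (hy : Submodule.span R (Set.range y) = ⊤) (M : Matrix (Fin f) (Fin e) R)
    (hrel : ∀ z : Fin f → R, ∑ i, z i • y i = 0 ↔ z ∈ Submodule.span R (Set.range fun j i => M i j)) (j : ℕ) :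
    Fitt.ideal R N j = CAlgX.minorIdeal M (f - j) := by
  classical
  rw [Groth.L13.Fitting.ideal_eq_tup y hy, Groth.L13.Fitting.tup_eq_minors]
  refine le_antisymm (Ideal.span_le.2 ?_) (Ideal.span_le.2 ?_)
  · rintro _ ⟨z, g, hz, rfl⟩
    rw [SetLike.mem_coe, ← Matrix.det_transpose]
    refine Groth.L13.Fitting.det_mem_of_rows _ (fun _ => Set.range fun l a => M (g a) l) (fun b hb => ?_) _ fun i => ?_
    · choose h hh using hb
      have hb' : b = (M.submatrix g h).transpose := Matrix.ext fun i a => (congrFun (hh i) a).symm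
      rw [hb', Matrix.det_transpose]
      exact Ideal.subset_span ⟨(g, h), rfl⟩
    · have h1 := Submodule.apply_mem_span_image_of_mem_span (LinearMap.funLeft R R g) ((hrel _).1 (hz i))
      rw [← Set.range_comp] at h1
      exact h1
  · rintro _ ⟨⟨g, h⟩, rfl⟩
    exact Ideal.subset_span ⟨fun b i => M i (h b), g,
      fun b => (hrel _).2 (Submodule.subset_span ⟨h b, rfl⟩), rfl⟩

variable {X : Scheme.{u}} {E F : X.Modules} {W : X.Opens} {e f : ℕ} {b : Fin e → Γ(E, W)} {c : Fin f → Γ(F, W)}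

/-- The coordinates are linear. -/
def coordEquiv {M : X.Modules} {n : ℕ} {d : Fin n → Γ(M, W)} (hd : IsBasisOn M W d) :
    Γ(M, W) ≃ₗ[Γ(X, W)] (Fin n → Γ(X, W)) :=
  (LinearEquiv.ofBijective (Fintype.linearCombination Γ(X, W) d) (by
    have h : ⇑(Fintype.linearCombination Γ(X, W) d) = lc M d le_rfl := funext fun z => by
      simp [lc, Fintype.linearCombination_apply, rs_self]
    rw [h]; exact hd W le_rfl)).symm

theorem coordEquiv_symm_apply {M : X.Modules} {n : ℕ} {d : Fin n → Γ(M, W)} (hd : IsBasisOn M W d)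
    (z : Fin n → Γ(X, W)) : (coordEquiv hd).symm z = ∑ i, z i • d i := by
  simp [coordEquiv, Fintype.linearCombination_apply]

/-- The matrix of a morphism in bases. -/
def homMat (b : Fin e → Γ(E, W)) (hc : IsBasisOn F W c) (φ : E ⟶ F) : Matrix (Fin f) (Fin e) Γ(X, W) :=
  fun i j => coordEquiv hc (φ.app W (b j)) i

theorem span_eq_top_of_basisOn {M : X.Modules} {n : ℕ} {d : Fin n → Γ(M, W)} (hd : IsBasisOn M W d) :
    Submodule.span Γ(X, W) (Set.range d) = ⊤ := by
  refine eq_top_iff.2 fun s _ => ?_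
  rw [← (coordEquiv hd).symm_apply_apply s, coordEquiv_symm_apply]
  exact Submodule.sum_mem _ fun i _ => Submodule.smul_mem _ _ (Submodule.subset_span ⟨i, rfl⟩)

theorem fitting_coker [Coh.IsQCoh E] [Coh.IsQCoh F] (hW : IsAffineOpen W) (hb : IsBasisOn E W b)
    (hc : IsBasisOn F W c) (φ : E ⟶ F) (j : ℕ) :
    Fitt.ideal Γ(X, W) Γ(cokernel φ, W) j = CAlgX.minorIdeal (homMat b hc φ) (f - j) := by
  haveI := Groth.L16.Devissage.isQCoh_cokernel φ
  let π : Γ(F, W) →ₗ[Γ(X, W)] Γ(cokernel φ, W) :=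
    { toFun := fun s => (cokernel.π φ).app W s
      map_add' := fun s t => map_add ((cokernel.π φ).app W).hom s t
      map_smul' := fun a s => (cokernel.π φ).app_smul a s }
  let Φ : Γ(E, W) →ₗ[Γ(X, W)] Γ(F, W) :=
    { toFun := fun s => φ.app W s
      map_add' := fun s t => map_add (φ.app W).hom s t
      map_smul' := fun a s => φ.app_smul a s }
  have hπ : Function.Surjective π := Groth.L16.AffineBC.surjective_app_of_epi (cokernel.π φ) hW
  refine fitting_eq_minorIdeal (fun i => π (c i)) ?_ _ (fun z => ?_) j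
  · rw [show (fun i => π (c i)) = ⇑π ∘ c from rfl, Set.range_comp, Submodule.span_image,
      span_eq_top_of_basisOn hc, Submodule.map_top, LinearMap.range_eq_top.2 hπ]
  · let L : (Fin f → Γ(X, W)) ≃ₗ[Γ(X, W)] Γ(F, W) := (coordEquiv hc).symm
    have h1 : ∑ i, z i • π (c i) = π (L z) := by
      simp only [L, coordEquiv_symm_apply, map_sum, map_smul]
    have h2 : LinearMap.range Φ = Submodule.span Γ(X, W) (Set.range fun j => φ.app W (b j)) := by
      rw [← Submodule.map_top, ← span_eq_top_of_basisOn hb, Submodule.map_span, ← Set.range_comp]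
      rfl
    have h3 : π (L z) = 0 ↔ L z ∈ LinearMap.range Φ := by
      refine ⟨fun h => ?_, fun ⟨s, hs⟩ => ?_⟩
      · obtain ⟨s, hs⟩ := Groth.L17.BC.Cochains.exact_app (S := ShortComplex.mk φ (cokernel.π φ) (cokernel.condition φ))
          (ShortComplex.exact_of_g_is_cokernel _ (cokernelIsCokernel φ)) hW (L z) h
        exact ⟨s, hs⟩
      · rw [← hs]
        exact congr($(congrArg (fun k => Scheme.Modules.Hom.app k W) (cokernel.condition φ)) s)
    rw [h1, h3, h2, ← Submodule.apply_mem_span_image_iff_mem_span (f := (coordEquiv hc).toLinearMap)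
      (coordEquiv hc).injective, ← Set.range_comp]
    simp only [L, LinearEquiv.coe_coe, LinearEquiv.apply_symm_apply]
    rfl

section Linear

variable {k : Type u} [Field k] [X.Over (Spec (CommRingCat.of k))]

/-- Constants on an open. -/
def sec (p : X ⟶ Spec (CommRingCat.of k)) (V : X.Opens) : k →+* Γ(X, V) :=
  ((Scheme.ΓSpecIso (CommRingCat.of k)).inv ≫ p.appLE ⊤ V le_top).hom

omit [X.Over (Spec (CommRingCat.of k))] in
theorem fromSpec_comp (p : X ⟶ Spec (CommRingCat.of k)) {V : X.Opens} (hV : IsAffineOpen V) :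
    hV.fromSpec ≫ p = Spec.map (CommRingCat.ofHom (sec p V)) := by
  rw [← IsAffineOpen.SpecMap_appLE_fromSpec p (isAffineOpen_top _) hV le_top,
    IsAffineOpen.fromSpec_top, Scheme.isoSpec_Spec_inv, ← Spec.map_comp]
  rfl

theorem smul_app (a : k) (φ : E ⟶ F) (s : Γ(E, W)) :
    (a • φ).app W s = sec (X ↘ Spec (CommRingCat.of k)) W a • φ.app W s :=
  KLin.smul_app_apply a φ W s

theorem homMat_sum (hc : IsBasisOn F W c) {m : ℕ} (w : Fin m → k) (φ : Fin m → (E ⟶ F)) :
    homMat b hc (∑ l, w l • φ l) =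
      ∑ l, sec (X ↘ Spec (CommRingCat.of k)) W (w l) • homMat b hc (φ l) := by
  ext i j
  have h : (∑ l, w l • φ l).app W (b j) = ∑ l, sec (X ↘ Spec (CommRingCat.of k)) W (w l) • (φ l).app W (b j) := by
    let T : (E ⟶ F) →+ Γ(F, W) := AddMonoidHom.mk' (fun ψ => ψ.app W (b j)) fun _ _ => rfl
    show T (∑ l, w l • φ l) = _
    rw [map_sum]
    exact Finset.sum_congr rfl fun l _ => smul_app (w l) (φ l) (b j)
  show coordEquiv hc _ i = _
  rw [h, map_sum, Finset.sum_apply, Matrix.sum_apply]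
  exact Finset.sum_congr rfl fun l _ => by rw [map_smul]; rfl

variable [DCoh.HasSheafHom E]

/-- With globally generated `Hom`, the matrices of a basis of `Hom` span all matrices. -/
theorem span_homMat (hEF : FlatMod.IsFinLocFree E ∧ FlatMod.IsFinLocFree F)
    (hgg : Curv2.IsGloballyGenerated ((DCoh.sheafHom E).obj F)) (hW : IsAffineOpen W) (hb : IsBasisOn E W b)
    (hc : IsBasisOn F W c) {m : ℕ} (B : Module.Basis (Fin m) k (E ⟶ F)) :
    Submodule.span Γ(X, W) (Set.range fun l => homMat b hc (B l)) = ⊤ := by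
  classical
  haveI : Coh.IsQCoh (homMod E F) :=
    (Groth.L16.NegPow.isCoh_of_isFinLocFree (Groth.L16.HomSh.isFinLocFree_homMod hEF.1 hEF.2)).1
  have hg : Curv2.IsGloballyGenerated (homMod E F) :=
    Groth.L18.Ample.isGloballyGenerated_of_iso ((Groth.L16.HomSh.sheafHomIso (M := E)).app F) hgg
  let T : Γ(homMod E F, W) →ₗ[Γ(X, W)] Matrix (Fin f) (Fin e) Γ(X, W) :=
    { toFun := fun s i j => coordEquiv hc (ev (secEquiv W s) le_rfl (b j)) i
      map_add' := fun s t => Matrix.ext fun i j => by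
        show coordEquiv hc (ev (secEquiv W s) le_rfl (b j) + ev (secEquiv W t) le_rfl (b j)) i = _
        rw [map_add]; rfl
      map_smul' := fun a s => Matrix.ext fun i j => by
        show coordEquiv hc (ev (secEquiv W (a • s)) le_rfl (b j)) i = _
        rw [map_smul, Groth.L16.HomSh.ev_smulSec, ro_self, map_smul]; rfl }
  have hT : Function.Surjective T := fun P => by
    refine ⟨lc (homMod E F) (unitBasis hb c) le_rfl fun a => P (finProdFinEquiv.symm a).2 (finProdFinEquiv.symm a).1,
      Matrix.ext fun i j => ?_⟩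
    have h1 := ev_lc_unitBasis hb c le_rfl
      (fun a => P (finProdFinEquiv.symm a).2 (finProdFinEquiv.symm a).1) j
    rw [rs_self] at h1
    show coordEquiv hc _ i = _
    rw [h1]
    have h2 : lc F c le_rfl (fun l => P l j) = (coordEquiv hc).symm fun l => P l j := by
      simp [coordEquiv_symm_apply, lc, rs_self]
    simp only [Equiv.symm_apply_apply]
    rw [h2, LinearEquiv.apply_symm_apply]
  refine eq_top_iff.2 ?_
  rw [← LinearMap.range_eq_top.2 hT, ← Submodule.map_top, ← Groth.Agent.L13.BlowTwo.span_rs_eq_top hg hW,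
    Submodule.map_span, Submodule.span_le]
  rintro _ ⟨_, ⟨t, rfl⟩, rfl⟩
  have h3 : T (rs (homMod E F) le_top t) = homMat b hc (toHom (secEquiv ⊤ t)) := rfl
  rw [SetLike.mem_coe, h3, ← B.sum_repr (toHom (secEquiv ⊤ t)), homMat_sum]
  exact Submodule.sum_mem _ fun l _ => Submodule.smul_mem _ _ (Submodule.subset_span ⟨l, rfl⟩)

end Linear

end Groth.L24.Degen
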