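import Groth.Agent.L16.ProjSpace.Twist
import Groth.Agent.L16.HomSh.Basic
import Groth.Agent.L18.Frame

/-!
# Multiplication by forms on twisting sheaves
-/

set_option autoImplicit false
set_option linter.style.haveILetI false
set_option backward.isDefEq.respectTransparency.types false
set_option backward.isDefEq.respectTransparency false

universe u

open CategoryTheory AlgebraicGeometry TopologicalSpace Opposite

noncomputable section

namespace Groth.L24.Degen

open Groth.L18.Frame (rs IsFrame)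
open Groth.L16 (ProjTwist.gen)

variable {R A : Type u} [CommRing R] [CommRing A] [Algebra R A] {𝒜 : ℕ → Submodule R A} [GradedAlgebra 𝒜]

/-- The image of a form in a local ring. -/
def formAt {d : ℕ} (g : 𝒜 d) (x : ProjectiveSpectrum 𝒜) : Twist.Loc 𝒜 x := algebraMap A _ g.1

theorem mk_mul_formAt {d : ℕ} (g : 𝒜 d) (x : ProjectiveSpectrum 𝒜) (a : A)
    (s : (x.asHomogeneousIdeal.toIdeal.primeCompl)) :
    (Localization.mk a s : Twist.Loc 𝒜 x) * formAt g x = Localization.mk (a * g.1) s := by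
  rw [formAt, ← Localization.mk_one_eq_algebraMap, Localization.mk_mul, mul_one]

theorem mul_formAt_mem {n : ℤ} {d : ℕ} {n' : ℤ} (h : n' = n + d) (g : 𝒜 d) (x : ProjectiveSpectrum 𝒜)
    {q : Twist.Loc 𝒜 x} (hq : q ∈ Twist.twistAt 𝒜 n x) : q * formAt g x ∈ Twist.twistAt 𝒜 n' x := by
  induction hq using Submodule.span_induction with
  | mem q hq =>
    obtain ⟨i, j, a, s, hs, hn, rfl⟩ := hq
    exact Submodule.subset_span ⟨i + d, j, ⟨a.1 * g.1, SetLike.mul_mem_graded a.2 g.2⟩, s, hs,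
      by subst h; push_cast; omega, mk_mul_formAt g x _ _⟩
  | zero => rw [zero_mul]; exact zero_mem _
  | add q q' _ _ h₁ h₂ => rw [add_mul]; exact add_mem h₁ h₂
  | smul c q _ h₁ => rw [Algebra.smul_mul_assoc]; exact Submodule.smul_mem _ c h₁

/-- Multiplication by a form on sections. -/
def mulSect (n : ℤ) {d : ℕ} {n' : ℤ} (h : n' = n + d) (g : 𝒜 d) (U : (Opens (ProjectiveSpectrum.top 𝒜))ᵒᵖ)
    (f : Twist.sectN (𝒜 := 𝒜) n U) : Twist.sectN (𝒜 := 𝒜) n' U :=
  ⟨fun x => ⟨(f.1 x).1 * formAt g x.1, mul_formAt_mem h g x.1 (f.1 x).2⟩, fun x => by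
    obtain ⟨V, hx, iV, i, j, a, s, nin, hd, hw⟩ := f.2 x
    refine ⟨V, hx, iV, i + d, j, ⟨a.1 * g.1, SetLike.mul_mem_graded a.2 g.2⟩, s, nin, ?_, fun y => ?_⟩
    · rcases hd with hd | hd
      · exact Or.inl (by subst h; push_cast; omega)
      · exact Or.inr (by show a.1 * g.1 = 0; rw [hd, zero_mul])
    · show (f.1 (iV y)).1 * formAt g y.1 = _
      rw [hw y, mk_mul_formAt]⟩

/-- Multiplication by a form. -/
def mulHom (n : ℤ) {d : ℕ} {n' : ℤ} (h : n' = n + d) (g : 𝒜 d) : Twist.twist 𝒜 n ⟶ Twist.twist 𝒜 n' :=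
  ⟨PresheafOfModules.homMk
    { app := fun U => AddCommGrpCat.ofHom (AddMonoidHom.mk' (fun f : Twist.sectN (𝒜 := 𝒜) n U => mulSect n h g U f)
        fun f f' => Subtype.ext (funext fun x => Subtype.ext (add_mul _ _ _)))
      naturality := fun U V i => rfl }
    (fun U c f => Subtype.ext (funext fun x => Subtype.ext (by
      show ((c : Twist.O U).1 x • (show Twist.sectN (𝒜 := 𝒜) n U from f).1 x : Twist.twistAt 𝒜 n x.1).1 * formAt g x.1 =
        ((c : Twist.O U).1 x • ((mulSect n h g U f).1 x) : Twist.twistAt 𝒜 n' x.1).1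
      rw [Twist.coe_smul_val, Twist.coe_smul_val, mul_assoc]
      rfl)))⟩

variable (f : 𝒜 1)

theorem pow_mem (m : ℕ) : f.1 ^ m ∈ 𝒜 m := by
  simpa using SetLike.pow_mem_graded m f.2

theorem pow_notMem {W : Opens (ProjectiveSpectrum.top 𝒜)} (hW : W ≤ Proj.basicOpen 𝒜 f.1) (m : ℕ) (x : W) :
    f.1 ^ m ∉ x.1.asHomogeneousIdeal := fun h =>
  (Proj.mem_basicOpen _ _ _).1 (hW x.2) (x.1.isPrime.mem_of_pow_mem m h)

/-- The frame `f ^ n` of `O(n)` where `f` does not vanish. -/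
def powFrame (n : ℤ) : Γ(Twist.twist 𝒜 n, Proj.basicOpen 𝒜 f.1) :=
  ProjTwist.gen (i := n.toNat) (j := (-n).toNat) ⟨_, pow_mem f n.toNat⟩ ⟨_, pow_mem f (-n).toNat⟩ (by omega) _
    (pow_notMem f le_rfl _)

theorem isFrame_powFrame (n : ℤ) : IsFrame (Twist.twist 𝒜 n) (Proj.basicOpen 𝒜 f.1) (powFrame f n) := fun V hV =>
  ⟨Groth.L16.ProjTwist.smul_gen_injective (i := n.toNat) (j := (-n).toNat) ⟨_, pow_mem f n.toNat⟩
      ⟨_, pow_mem f (-n).toNat⟩ (by omega) V (pow_notMem f hV _) (pow_notMem f hV _),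
    Groth.L16.ProjTwist.smul_gen_surjective (i := n.toNat) (j := (-n).toNat) ⟨_, pow_mem f n.toNat⟩
      ⟨_, pow_mem f (-n).toNat⟩ (by omega) V (pow_notMem f hV _) (pow_notMem f hV _)⟩

theorem mulHom_powFrame (n : ℤ) {d : ℕ} {n' : ℤ} (h : n' = n + d) :
    (mulHom n h (⟨_, pow_mem f d⟩ : 𝒜 d)).app (Proj.basicOpen 𝒜 f.1) (powFrame f n) = powFrame f n' := by
  refine Subtype.ext (funext fun x => Subtype.ext ?_)
  show Localization.mk (f.1 ^ n.toNat) _ * formAt (⟨_, pow_mem f d⟩ : 𝒜 d) x.1 = Localization.mk (f.1 ^ n'.toNat) _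
  rw [mk_mul_formAt, Localization.mk_eq_mk_iff, Localization.r_iff_exists]
  refine ⟨1, ?_⟩
  simp only [OneMemClass.coe_one, one_mul, ← pow_add]
  exact congrArg (f.1 ^ ·) (by omega)

end Groth.L24.Degen
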