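import Groth.Agent.L24.Degen.Chart
import Groth.Agent.L14.Quot.ExtFin
import Groth.Prelude.Def_Fitting

/-!
# Rank loci of a general homomorphism of vector bundles
-/

set_option autoImplicit false
set_option linter.style.haveILetI false
set_option maxHeartbeats 1000000
set_option backward.isDefEq.respectTransparency.types false
set_option backward.isDefEq.respectTransparency false

universe u

open CategoryTheory CategoryTheory.Limits AlgebraicGeometry TopologicalSpace KaehlerDifferential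

noncomputable section

namespace Groth.L24.Degen

open Groth.L19.ProjBdl (IsBasisOn)

/-- The local statement: on a chart the general member is good. -/
theorem exists_poly_chart {k : Type u} [Field k] [CharZero k] {X : Scheme.{u}} [X.Over (Spec (CommRingCat.of k))]
    [IsIntegral X] [Smooth (X ↘ Spec (CommRingCat.of k))] (n : ℕ) (hdim : topologicalKrullDim X = n)
    {E F : X.Modules} {e f r : ℕ} [DCoh.HasSheafHom E] (hgg : Curv2.IsGloballyGenerated ((DCoh.sheafHom E).obj F))
    (hEF : FlatMod.IsFinLocFree E ∧ FlatMod.IsFinLocFree F) {U : X.Opens} (hU : IsAffineOpen U)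
    {b : Fin e → Γ(E, U)} (hb : IsBasisOn E U b) {c : Fin f → Γ(F, U)} (hc : IsBasisOn F U c) {m : ℕ}
    (B : Module.Basis (Fin m) k (E ⟶ F)) (σ : Fin r ⊕ Fin (f - r) ≃ Fin f) (τ : Fin r ⊕ Fin (e - r) ≃ Fin e) :
    ∃ g : MvPolynomial (Fin m) k, g ≠ 0 ∧ ∀ φ : E ⟶ F, MvPolynomial.eval (B.equivFun φ) g ≠ 0 →
      letI := (sec (X ↘ Spec (CommRingCat.of k)) U).toAlgebra
      let M := (homMat b hc φ).submatrix σ τ
      let T := Localization.Away M.toBlocks₁₁.det ⧸
        (CAlgX.minorIdeal (homMat b hc φ) (r + 1)).map (algebraMap Γ(X, U) (Localization.Away M.toBlocks₁₁.det))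
      SmoothOfRelativeDimension (n - (f - r) * (e - r)) (Spec.map (CommRingCat.ofHom (algebraMap k T))) ∧
        (Nonempty (PrimeSpectrum T) → (f - r) * (e - r) ≤ n) := by
  letI := (sec (X ↘ Spec (CommRingCat.of k)) U).toAlgebra
  obtain ⟨hsm, hn⟩ := smooth_sec (X ↘ Spec (CommRingCat.of k)) n hdim hU
  haveI := hsm
  let Mf : Fin m → Matrix (Fin r ⊕ Fin (f - r)) (Fin r ⊕ Fin (e - r)) Γ(X, U) :=
    fun l => (homMat b hc (B l)).submatrix σ τ
  have hspan : Submodule.span Γ(X, U) (Set.range Mf) = ⊤ := by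
    let Λ := (Matrix.reindexLinearEquiv Γ(X, U) Γ(X, U) σ.symm τ.symm)
    have : Set.range Mf = Λ '' Set.range (fun l => homMat b hc (B l)) := by
      rw [← Set.range_comp]; rfl
    rw [this, show ⇑Λ = ⇑Λ.toLinearMap from rfl, Submodule.span_image, span_homMat hEF hgg hU hb hc B,
      Submodule.map_top, LinearEquiv.range]
  obtain ⟨g, hg0, hg⟩ := exists_poly_memQ Mf (fun _ _ => hspan ▸ Submodule.mem_top) hn
  refine ⟨g, hg0, fun φ hφ => ?_⟩
  intro M T
  obtain ⟨h1, h2⟩ := hg (B.equivFun φ) hφ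
  have hM : memM Mf (B.equivFun φ) = M := by
    show memM Mf (B.equivFun φ) = (homMat b hc φ).submatrix σ τ
    conv_rhs => rw [← B.sum_repr φ, homMat_sum]
    ext i j
    simp [memM, Mf, Matrix.sum_apply, Matrix.submatrix_apply, B.equivFun_apply]
    rfl
  have hI : (CAlgX.minorIdeal (homMat b hc φ) (r + 1)).map (algebraMap Γ(X, U) (Localization.Away M.toBlocks₁₁.det)) =
      Ideal.span (Set.range fun l : Fin (f - r) × Fin (e - r) =>
        algebraMap Γ(X, U) (Localization.Away M.toBlocks₁₁.det) (schur M l.1 l.2)) := by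
    have hunit : IsUnit (M.map (algebraMap Γ(X, U) (Localization.Away M.toBlocks₁₁.det))).toBlocks₁₁.det := by
      have h3 : (M.map (algebraMap Γ(X, U) (Localization.Away M.toBlocks₁₁.det))).toBlocks₁₁ =
          (algebraMap Γ(X, U) (Localization.Away M.toBlocks₁₁.det)).mapMatrix M.toBlocks₁₁ := rfl
      rw [h3, ← RingHom.map_det]
      exact IsLocalization.Away.algebraMap_isUnit _
    rw [← minorIdeal_reindex (homMat b hc φ) σ τ, ← minorIdeal_map, minorIdeal_succ_eq _ hunit, schur_map]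
    rfl
  have h1' : Algebra.Smooth k T ∧
      ∀ x : PrimeSpectrum T, (f - r) * (e - r) + Module.rankAtStalk (Ω[T⁄k]) x = n := by
    have h12 := And.intro h1 h2
    unfold MemQ at h12
    rw [hM] at h12
    have gen : ∀ J : Ideal (Localization.Away M.toBlocks₁₁.det),
        J = Ideal.span (Set.range fun l : Fin (f - r) × Fin (e - r) =>
          algebraMap Γ(X, U) (Localization.Away M.toBlocks₁₁.det) (schur M l.1 l.2)) →
        Algebra.Smooth k (Localization.Away M.toBlocks₁₁.det ⧸ J) ∧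
          ∀ x : PrimeSpectrum (Localization.Away M.toBlocks₁₁.det ⧸ J),
            (f - r) * (e - r) + Module.rankAtStalk (Ω[(Localization.Away M.toBlocks₁₁.det ⧸ J)⁄k]) x = n := by
      rintro _ rfl
      exact h12
    exact gen _ hI
  haveI := h1'.1
  exact ⟨smoothOfRelativeDimension_spec fun x => by have := h1'.2 x; omega, fun ⟨x⟩ => by have := h1'.2 x; omega⟩

theorem smooth_rankLocus (k : Type u) [Field k] [CharZero k] (X : Scheme.{u}) [X.Over (Spec (CommRingCat.of k))]
    [IsIntegral X] [Smooth (X ↘ Spec (CommRingCat.of k))] [IsProper (X ↘ Spec (CommRingCat.of k))]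
    (n : ℕ) (hdim : topologicalKrullDim X = n)
    (E F : X.Modules) (e f : ℕ) (hE : FlatMod.IsFinLocFreeOfRank e E) (hF : FlatMod.IsFinLocFreeOfRank f F)
    [DCoh.HasSheafHom E] (hgg : Curv2.IsGloballyGenerated ((DCoh.sheafHom E).obj F))
    (r : ℕ) (hre : r < e) (hrf : r < f) :
    ∃ (m : ℕ) (c : (E ⟶ F) ≃ₗ[k] (Fin m → k)) (p : MvPolynomial (Fin m) k), p ≠ 0 ∧
      ∀ φ : E ⟶ F, MvPolynomial.eval (c φ) p ≠ 0 →
        letI D := Fitt.sheafIdeal (cokernel φ) (f - r - 1)
        letI W : D.subscheme.Opens :=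
          D.subschemeι ⁻¹ᵁ ((Fitt.sheafIdeal (cokernel φ) (f - r)).support : TopologicalSpace.Closeds X).compl
        Smooth (W.ι ≫ D.subschemeι ≫ (X ↘ Spec (CommRingCat.of k))) ∧
          (IsEmpty W ∨ ((e - r) * (f - r) ≤ n ∧
            ∀ Z ∈ irreducibleComponents (W : Type u),
              topologicalKrullDim Z = ((n - (e - r) * (f - r) : ℕ) : WithBot ℕ∞))) := by
  classical
  have hE' : FlatMod.IsFinLocFree E := fun x => let ⟨U, h⟩ := hE x; ⟨U, e, h⟩
  have hF' : FlatMod.IsFinLocFree F := fun x => let ⟨U, h⟩ := hF x; ⟨U, f, h⟩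
  haveI : IsLocallyNoetherian X := LocallyOfFiniteType.isLocallyNoetherian (X ↘ Spec (CommRingCat.of k))
  have hEc := Groth.L16.NegPow.isCoh_of_isFinLocFree hE'
  have hFc := Groth.L16.NegPow.isCoh_of_isFinLocFree hF'
  haveI : Coh.IsQCoh E := hEc.1
  haveI : Coh.IsQCoh F := hFc.1
  haveI := Groth.L14.Quot.finite_hom (k := k) hEc hFc
  let B := Module.finBasis k (E ⟶ F)
  -- charts
  have hch : ∀ x : X, ∃ (U : X.Opens) (b : Fin e → Γ(E, U)) (c : Fin f → Γ(F, U)),
      IsAffineOpen U ∧ x ∈ U ∧ IsBasisOn E U b ∧ IsBasisOn F U c := fun x => by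
    obtain ⟨V, b, -, hxV, -, hb⟩ := exists_basisOn_rank hE x ⊤ trivial
    obtain ⟨U, c, hU, hxU, hUV, hc⟩ := exists_basisOn_rank hF x V hxV
    exact ⟨U, _, c, hU, hxU, hb.mono hUV, hc⟩
  choose U bE bF hU hxU hb hc using hch
  haveI : CompactSpace X := QuasiCompact.compactSpace_of_compactSpace (X ↘ Spec (CommRingCat.of k))
  obtain ⟨S, hS⟩ := isCompact_univ.elim_finite_subcover (fun x : X => (U x : Set X)) (fun x => (U x).2)
    (fun x _ => Set.mem_iUnion.2 ⟨x, hxU x⟩)
  choose g hg0 hg using fun (i : S × (Fin r ⊕ Fin (f - r) ≃ Fin f) × (Fin r ⊕ Fin (e - r) ≃ Fin e)) =>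
    exists_poly_chart n hdim hgg ⟨hE', hF'⟩ (hU i.1.1) (hb i.1.1) (hc i.1.1) B i.2.1 i.2.2
  refine ⟨_, B.equivFun, ∏ i, g i, Finset.prod_ne_zero_iff.2 fun i _ => hg0 i, fun φ hφ => ?_⟩
  rw [map_prod, Finset.prod_ne_zero_iff] at hφ
  haveI := Groth.L16.Devissage.isQCoh_cokernel φ
  have hft : CohB1.IsFT (cokernel φ) := (Groth.L16.CohKernel.isCoh_kernel_cokernel hEc hFc φ).2.2
  let D := Fitt.sheafIdeal (cokernel φ) (f - r - 1)
  let W : D.subscheme.Opens :=
    D.subschemeι ⁻¹ᵁ ((Fitt.sheafIdeal (cokernel φ) (f - r)).support : TopologicalSpace.Closeds X).compl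
  set s := X ↘ Spec (CommRingCat.of k)
  show Smooth (W.ι ≫ D.subschemeι ≫ s) ∧ (IsEmpty W ∨ ((e - r) * (f - r) ≤ n ∧
    ∀ Z ∈ irreducibleComponents (W : Type u),
      topologicalKrullDim Z = ((n - (e - r) * (f - r) : ℕ) : WithBot ℕ∞)))
  -- the chart at a point
  have key : ∀ w : W, ∃ (V : (W : Scheme.{u}).Opens), w ∈ V ∧
      SmoothOfRelativeDimension (n - (f - r) * (e - r)) (V.ι ≫ W.ι ≫ D.subschemeι ≫ s) ∧
      (f - r) * (e - r) ≤ n := by
    intro w
    set y := D.subschemeι w.1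
    obtain ⟨x, hxS, hyU⟩ := Set.mem_iUnion₂.1 (hS (Set.mem_univ y))
    let U' : X.affineOpens := ⟨U x, hU x⟩
    let P := (hU x).primeIdealOf ⟨y, hyU⟩
    have hD : D.ideal U' = CAlgX.minorIdeal (homMat (bE x) (hc x) φ) (r + 1) := by
      rw [show D = Fitt.sheafIdeal (cokernel φ) (f - r - 1) from rfl, Groth.L15.FittSheaf.sheafIdeal_ideal _ hft,
        fitting_coker (hU x) (hb x) (hc x), show f - (f - r - 1) = r + 1 by omega]
    have hPr : ¬ CAlgX.minorIdeal (homMat (bE x) (hc x) φ) r ≤ P.asIdeal := by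
      have h1 : y ∉ (Fitt.sheafIdeal (cokernel φ) (f - r)).support := w.2
      rw [Groth.L15.FittSheaf.notMem_support_iff _ hft _ (U := U') hyU, fitting_coker (hU x) (hb x) (hc x),
        show f - (f - r) = r by omega] at h1
      exact h1
    obtain ⟨σ, τ, hδ⟩ := exists_corner hre.le hrf.le (homMat (bE x) (hc x) φ) P.asIdeal hPr
    have hgood := hg (⟨x, hxS⟩, σ, τ) φ (hφ _ (Finset.mem_univ _))
    obtain ⟨j, hj, hjs, hjr⟩ := exists_chart s D U' ((homMat (bE x) (hc x) φ).submatrix σ τ).toBlocks₁₁.det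
      ((CAlgX.minorIdeal (homMat (bE x) (hc x) φ) (r + 1)).map
        (algebraMap Γ(X, U x) (Localization.Away ((homMat (bE x) (hc x) φ).submatrix σ τ).toBlocks₁₁.det)))
      (congrArg (Ideal.map _) hD.symm)
    haveI := hj
    rw [hD] at hjr
    have hw : y ∈ Set.range (j ≫ D.subschemeι) := by
      refine (hjr y).2 ⟨hyU, ?_, hδ⟩
      have h1 : y ∈ D.support := D.range_subschemeι.le ⟨w.1, rfl⟩
      rw [Scheme.IdealSheafData.mem_support_iff_of_mem (U := U') hyU] at h1
      have h2 : (hU x).fromSpec P ∈ (hU x).fromSpec '' PrimeSpectrum.zeroLocus (D.ideal U' : Set Γ(X, U x)) := by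
        rw [(hU x).fromSpec_image_zeroLocus, (hU x).fromSpec_primeIdealOf]
        exact ⟨h1, hyU⟩
      obtain ⟨q, hq, hqy⟩ := h2
      rw [← hD]
      have hqP : q = P := (hU x).fromSpec.isOpenEmbedding.injective hqy
      subst hqP
      exact hq
    have hle : Set.range j ⊆ Set.range W.ι := by
      rw [Scheme.Opens.range_ι]
      rintro _ ⟨t, rfl⟩
      obtain ⟨hy, -, hδ'⟩ := (hjr _).1 ⟨t, rfl⟩
      show (j ≫ D.subschemeι) t ∉ (Fitt.sheafIdeal (cokernel φ) (f - r)).support
      rw [Groth.L15.FittSheaf.notMem_support_iff _ hft _ (U := U') hy, fitting_coker (hU x) (hb x) (hc x),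
        show f - (f - r) = r by omega]
      intro hmin
      refine hδ' (hmin (Ideal.subset_span ⟨(fun a => σ (Sum.inl a), fun a => τ (Sum.inl a)), ?_⟩))
      rfl
    obtain ⟨t, ht⟩ := hw
    have htw : j t = w.1 := D.subschemeι.isEmbedding.injective ht
    let j' := IsOpenImmersion.lift W.ι j hle
    haveI : IsOpenImmersion j' := by
      have : IsOpenImmersion (j' ≫ W.ι) := by rw [IsOpenImmersion.lift_fac]; exact hj
      exact IsOpenImmersion.of_comp j' W.ι
    have htw' : j' t = w := W.ι.isEmbedding.injective (by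
      rw [← Scheme.Hom.comp_apply, IsOpenImmersion.lift_fac, htw]
      rfl)
    have hgood' : SmoothOfRelativeDimension (n - (f - r) * (e - r)) (j' ≫ W.ι ≫ D.subschemeι ≫ s) := by
      rw [← Category.assoc, IsOpenImmersion.lift_fac, hjs]
      exact hgood.1
    refine ⟨j'.opensRange, ⟨t, htw'⟩, ?_, ?_⟩
    · rw [← j'.isoOpensRange_inv_comp, Category.assoc]
      exact (MorphismProperty.cancel_left_of_respectsIso (@SmoothOfRelativeDimension (n - (f - r) * (e - r))) _ _).2
        hgood'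
    · exact hgood.2 ⟨t⟩
  choose V hwV hV hnle using key
  haveI hsrd : SmoothOfRelativeDimension (n - (f - r) * (e - r)) (W.ι ≫ D.subschemeι ≫ s) :=
    (IsZariskiLocalAtSource.iff_of_iSup_eq_top (P := @SmoothOfRelativeDimension (n - (f - r) * (e - r))) V
      (top_unique fun w _ => Opens.mem_iSup.2 ⟨w, hwV w⟩)).2 hV
  refine ⟨SmoothOfRelativeDimension.smooth (n - (f - r) * (e - r)) _, ?_⟩
  by_cases hW : IsEmpty W
  · exact Or.inl hW
  · obtain ⟨w⟩ := not_isEmpty_iff.1 hW
    refine Or.inr ⟨mul_comm (f - r) (e - r) ▸ hnle w, fun Z hZ => ?_⟩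
    rw [mul_comm (e - r)]
    exact dim_component (W.ι ≫ D.subschemeι ≫ s) _ hZ

end Groth.L24.Degen
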