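import Groth.Agent.L24.Degen.Stratum
import Groth.Agent.L24.Degen.Main
import Groth.Agent.L24.Kleiman.Translate
import Groth.Agent.L18.Grass.PlkExtPow
import Groth.Agent.L12.FinCov.Basis

/-!
# Homomorphisms with large rank in bases
-/

set_option autoImplicit false
set_option linter.style.haveILetI false
set_option maxHeartbeats 1000000
set_option backward.isDefEq.respectTransparency.types false
set_option backward.isDefEq.respectTransparency false

universe u

open CategoryTheory CategoryTheory.Limits AlgebraicGeometry TopologicalSpace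

noncomputable section

namespace Groth.L24.Degen

open Groth.L18.Frame (rs ro rs_rs rs_self rs_smul ro_ro)
open Groth.L19.ProjBdl (IsBasisOn lc app_lc app_rs lc_mono)

/-- Where some `t`-minor of a general homomorphism can fail: small dimension. -/
theorem exists_poly_rank_ge {k : Type u} [Field k] [IsAlgClosed k] [CharZero k] {X : Scheme.{u}}
    [X.Over (Spec (CommRingCat.of k))] [IsIntegral X] [Smooth (X ↘ Spec (CommRingCat.of k))]
    (n : ℕ) (hdim : topologicalKrullDim X = n) {E F : X.Modules} {e f t : ℕ} (hte : t ≤ e) (htf : t ≤ f)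
    {ι : Type} [Fintype ι] (U : ι → X.Opens) (hU : ∀ i, IsAffineOpen (U i))
    {b : ∀ i, Fin e → Γ(E, U i)} {c : ∀ i, Fin f → Γ(F, U i)} (hb : ∀ i, IsBasisOn E (U i) (b i))
    (hc : ∀ i, IsBasisOn F (U i) (c i)) {m : ℕ} (B : Fin m → (E ⟶ F))
    (hspan : ∀ i, Submodule.span Γ(X, U i) (Set.range fun l => homMat (b i) (hc i) (B l)) = ⊤) :
    ∃ p : MvPolynomial (Fin m) k, p ≠ 0 ∧ ∀ (w : Fin m → k) (φ : E ⟶ F), φ = ∑ l, w l • B l → MvPolynomial.eval w p ≠ 0 →
      ∀ i (y : X) (hy : y ∈ U i),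
        CAlgX.minorIdeal (homMat (b i) (hc i) φ) t ≤ ((hU i).primeIdealOf ⟨y, hy⟩).asIdeal →
          1 ≤ t ∧ (f - t + 1) * (e - t + 1) ≤ n ∧
            topologicalKrullDim (closure ({y} : Set X)) ≤ ((n - (f - t + 1) * (e - t + 1) : ℕ) : WithBot ℕ∞) := by
  classical
  set s := X ↘ Spec (CommRingCat.of k)
  let I := ι × (Σ r : Fin t, (Fin r ⊕ Fin (f - r) ≃ Fin f) × (Fin r ⊕ Fin (e - r) ≃ Fin e))
  choose g hg0 hg using fun x : I =>
    exists_poly_stratum s n hdim (hU x.1) (fun l => (homMat (b x.1) (hc x.1) (B l)).submatrix x.2.2.1 x.2.2.2) (by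
      intro u v
      let Λ := (Matrix.reindexLinearEquiv Γ(X, U x.1) Γ(X, U x.1) x.2.2.1.symm x.2.2.2.symm)
      have : (Set.range fun l => (homMat (b x.1) (hc x.1) (B l)).submatrix x.2.2.1 x.2.2.2) =
          Λ.toLinearMap '' Set.range (fun l => homMat (b x.1) (hc x.1) (B l)) := by
        rw [← Set.range_comp]; rfl
      rw [this, Submodule.span_image, hspan, Submodule.map_top, LinearEquiv.range]
      trivial)
  refine ⟨∏ x, g x, Finset.prod_ne_zero_iff.2 fun x _ => hg0 x, fun w φ hw hφ i y hy hle => ?_⟩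
  rw [map_prod, Finset.prod_ne_zero_iff] at hφ
  set P := ((hU i).primeIdealOf ⟨y, hy⟩).asIdeal
  have hP : P.IsPrime := ((hU i).primeIdealOf ⟨y, hy⟩).isPrime
  obtain ⟨r, hrf, hre, σ, τ, hδ, hsch, -⟩ := exists_max_corner (homMat (b i) (hc i) φ) P ∅
    ⟨0, finZeroElim, finZeroElim, by
      rw [Matrix.det_fin_zero]; exact fun h1 => hP.ne_top ((Ideal.eq_top_iff_one _).2 h1), by simp⟩
  have hrt : r < t := by
    by_contra hc'
    push Not at hc'
    refine hδ ?_
    have h1 : CAlgX.minorIdeal (homMat (b i) (hc i) φ) r ≤ P := by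
      refine le_trans ?_ hle
      -- minors of larger size lie in the ideal of smaller ones
      clear hδ hsch σ τ hre hrf
      induction r, hc' using Nat.le_induction with
      | base => exact le_rfl
      | succ r _ ih =>
        refine le_trans ?_ ih
        refine Ideal.span_le.2 ?_
        rintro _ ⟨⟨g, h⟩, rfl⟩
        show ((homMat (b i) (hc i) φ).submatrix g h).det ∈ _
        rw [Matrix.det_succ_row_zero]
        refine Submodule.sum_mem _ fun j _ => Ideal.mul_mem_left _ _ ?_
        rw [Matrix.submatrix_submatrix]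
        exact Ideal.subset_span ⟨(g ∘ Fin.succ, h ∘ j.succAbove), rfl⟩
    exact h1 (Ideal.subset_span ⟨(fun u => σ (Sum.inl u), fun u => τ (Sum.inl u)), rfl⟩)
  obtain ⟨R, hR, hmem, hdimR, hne⟩ := hg (i, ⟨⟨r, hrt⟩, σ, τ⟩) w (hφ _ (Finset.mem_univ _))
    ((homMat (b i) (hc i) φ).submatrix σ τ) (by
      conv_lhs => rw [hw, homMat_sum]
      ext u v
      simp [Matrix.sum_apply]
      rfl)
  have hyR : y ∈ R := hmem y hy hδ hsch
  have hpq : (f - t + 1) * (e - t + 1) ≤ (f - r) * (e - r) := Nat.mul_le_mul (by omega) (by omega)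
  have hle' := hne ⟨y, hyR⟩
  refine ⟨by omega, hpq.trans hle', ?_⟩
  haveI : LocallyOfFiniteType (Over.mk s).hom := inferInstanceAs (LocallyOfFiniteType s)
  refine ((Groth.L24.Kleiman.dim_le_of_mem_locallyClosed (X := Over.mk s) y R hR hyR).trans hdimR).trans ?_
  exact_mod_cast Nat.sub_le_sub_left hpq n

variable {X : Scheme.{u}} {E F : X.Modules} {W : X.Opens} {e f : ℕ} {b : Fin e → Γ(E, W)} {c : Fin f → Γ(F, W)}

theorem homMat_rs (hc : IsBasisOn F W c) (φ : E ⟶ F) {V : X.Opens} (h : V ≤ W) :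
    homMat (fun j => rs E h (b j)) (hc.mono h) φ = (homMat b hc φ).map (ro h) := by
  ext i j
  show coordEquiv (hc.mono h) (φ.app V (rs E h (b j))) i = ro h (coordEquiv hc (φ.app W (b j)) i)
  have key : coordEquiv (hc.mono h) (φ.app V (rs E h (b j))) =
      fun i => ro h (coordEquiv hc (φ.app W (b j)) i) := by
    apply (coordEquiv (hc.mono h)).symm.injective
    rw [LinearEquiv.symm_apply_apply, app_rs, coordEquiv_symm_apply]
    conv_lhs => rw [← (coordEquiv hc).symm_apply_apply (φ.app W (b j)), coordEquiv_symm_apply,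
      Groth.L19.ProjBdl.rs_sum]
    simp only [rs_smul]
  exact congrFun key i

theorem app_eq_mulVec (hc : IsBasisOn F W c) (φ : E ⟶ F) (w : Fin e → Γ(X, W)) :
    φ.app W (∑ j, w j • b j) = (coordEquiv hc).symm ((homMat b hc φ).mulVec w) := by
  apply (coordEquiv hc).injective
  rw [LinearEquiv.apply_symm_apply, map_sum, map_sum]
  ext i
  simp only [Scheme.Modules.Hom.app_smul, map_smul, Finset.sum_apply, Pi.smul_apply, smul_eq_mul,
    Matrix.mulVec, dotProduct]
  exact Finset.sum_congr rfl fun j _ => mul_comm _ _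

theorem mulVec_eq_zero_of_minor {R : Type u} [CommRing R] (M : Matrix (Fin f) (Fin e) R) {g : Fin e → Fin f}
    {h : Fin e → Fin e} (hδ : (M.submatrix g h).det ∈ nonZeroDivisors R) {w : Fin e → R} (hw : M.mulVec w = 0) :
    w = 0 := by
  classical
  cases subsingleton_or_nontrivial R
  · exact Subsingleton.elim _ _
  have hh : Function.Bijective h := by
    refine Finite.injective_iff_bijective.1 fun u v huv => ?_
    by_contra hne
    rw [Matrix.det_zero_of_column_eq hne fun l => by simp [huv]] at hδ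
    exact zero_notMem_nonZeroDivisors hδ
  let ε := Equiv.ofBijective h hh
  have h1 : (M.submatrix g h).mulVec (w ∘ h) = 0 := by
    ext u
    have := congrFun hw (g u)
    simp only [Matrix.mulVec, dotProduct, Pi.zero_apply] at this ⊢
    rw [← ε.sum_comp] at this
    exact this
  have h2 := congrArg (M.submatrix g h).adjugate.mulVec h1
  rw [Matrix.mulVec_mulVec, Matrix.adjugate_mul, Matrix.smul_mulVec, Matrix.one_mulVec, Matrix.mulVec_zero] at h2
  ext j
  obtain ⟨u, rfl⟩ := hh.2 j
  exact hδ.1 (w (h u)) (by simpa [mul_comm] using congrFun h2 u)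

/-- A homomorphism with a nonzero maximal minor on the charts of an integral scheme is a monomorphism. -/
theorem mono_of_minors [IsIntegral X] (φ : E ⟶ F) {ι : Type} (U : ι → X.Opens) (hcov : ∀ x, ∃ i, x ∈ U i)
    {bb : ∀ i, Fin e → Γ(E, U i)} {cc : ∀ i, Fin f → Γ(F, U i)} (hb : ∀ i, IsBasisOn E (U i) (bb i))
    (hc : ∀ i, IsBasisOn F (U i) (cc i))
    (hne : ∀ i, Nonempty (U i) → ∃ (g : Fin e → Fin f) (h : Fin e → Fin e),
      ((homMat (bb i) (hc i) φ).submatrix g h).det ≠ 0) : Mono φ := by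
  refine Preadditive.mono_of_cancel_zero _ fun {G} g hg => Groth.L18.Ample.eq_zero_of_local g fun V s x hx => ?_
  obtain ⟨i, hi⟩ := hcov x
  refine ⟨V ⊓ U i, inf_le_left, ⟨hx, hi⟩, ?_⟩
  haveI : Nonempty (U i) := ⟨⟨x, hi⟩⟩
  haveI : Nonempty (V ⊓ U i : X.Opens) := ⟨⟨x, hx, hi⟩⟩
  have hle : V ⊓ U i ≤ U i := inf_le_right
  obtain ⟨gg, hh, hd⟩ := hne i inferInstance
  set t := g.app (V ⊓ U i) (rs G inf_le_left s)
  have ht : φ.app (V ⊓ U i) t = 0 :=
    congr($(congrArg (fun k => Scheme.Modules.Hom.app k (V ⊓ U i)) hg) (rs G inf_le_left s))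
  obtain ⟨w, hw⟩ := ((hb i).mono hle (V ⊓ U i) le_rfl).2 t
  have hw' : ∑ j, w j • rs E hle (bb i j) = t := by simpa [lc, rs_self] using hw
  rw [← hw', app_eq_mulVec ((hc i).mono hle), LinearEquiv.map_eq_zero_iff, homMat_rs (hc i) φ hle] at ht
  have hdet : ((((homMat (bb i) (hc i) φ).map (ro hle))).submatrix gg hh).det ≠ 0 := by
    intro h0
    refine hd (map_injective_of_isIntegral X (homOfLE hle) (Eq.trans ?_ (map_zero _).symm))
    rw [← h0, Matrix.submatrix_map]
    exact RingHom.map_det (X.presheaf.map (homOfLE hle).op).hom _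
  have hw0 := mulVec_eq_zero_of_minor _ (mem_nonZeroDivisors_iff_ne_zero.2 hdet) ht
  show t = 0
  rw [← hw', hw0]
  simp

/-- The cokernel where a maximal minor is invertible. -/
theorem isBasisOn_coker [Coh.IsQCoh E] [Coh.IsQCoh F] (hb : IsBasisOn E W b) (hc : IsBasisOn F W c) (φ : E ⟶ F)
    (σ : Fin e ⊕ Fin (f - e) ≃ Fin f) (hδ : IsUnit ((homMat b hc φ).submatrix (σ ∘ Sum.inl) id).det) :
    IsBasisOn (cokernel φ) W fun i => (cokernel.π φ).app W (c (σ (Sum.inr i))) := by
  classical
  refine Groth.L18.PlkExtPow.isBasisOn_of_affine fun V hV h => ?_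
  haveI := Groth.L16.Devissage.isQCoh_cokernel φ
  let M := homMat (fun j => rs E h (b j)) (hc.mono h) φ
  have hM : IsUnit (M.submatrix (σ ∘ Sum.inl) id).det := by
    have : M.submatrix (σ ∘ Sum.inl) id =
        (X.presheaf.map (homOfLE h).op).hom.mapMatrix ((homMat b hc φ).submatrix (σ ∘ Sum.inl) id) := by
      show (homMat (fun j => rs E h (b j)) (hc.mono h) φ).submatrix _ _ = _
      rw [homMat_rs hc φ h]
      rfl
    rw [this, ← RingHom.map_det]
    exact hδ.map _
  let L := (coordEquiv (hc.mono h)).symm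
  let emb : (Fin (f - e) → Γ(X, V)) → (Fin f → Γ(X, V)) := fun z i => Sum.elim 0 z (σ.symm i)
  have hlc : ∀ z, lc (cokernel φ) (fun i => (cokernel.π φ).app W (c (σ (Sum.inr i)))) h z =
      (cokernel.π φ).app V (L (emb z)) := fun z => by
    rw [← app_lc]
    congr 1
    simp only [L, coordEquiv_symm_apply, emb, lc]
    rw [← σ.sum_comp, Fintype.sum_sum_type]
    simp
  have himg : ∀ w, φ.app V (∑ j, w j • rs E h (b j)) = L (M.mulVec w) := app_eq_mulVec (hc.mono h) φ
  have hπφ : ∀ u, (cokernel.π φ).app V (φ.app V u) = 0 := fun u =>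
    congr($(congrArg (fun k => Scheme.Modules.Hom.app k V) (cokernel.condition φ)) u)
  refine ⟨fun z z' hz => ?_, fun u => ?_⟩
  · rw [hlc, hlc, ← sub_eq_zero, ← map_sub, ← map_sub] at hz
    obtain ⟨a, ha⟩ := Groth.L17.BC.Cochains.exact_app (S := ShortComplex.mk φ (cokernel.π φ) (cokernel.condition φ))
      (ShortComplex.exact_of_g_is_cokernel _ (cokernelIsCokernel φ)) hV _ hz
    obtain ⟨w, rfl⟩ := (hb.mono h V le_rfl).2 a
    have ha' : φ.app V (∑ j, w j • rs E h (b j)) = L (emb z - emb z') := by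
      rw [← ha]
      simp [lc, rs_self]
    rw [himg] at ha'
    have hzw := L.injective ha'
    have hw0 : w = 0 := by
      refine Matrix.mulVec_injective_of_isUnit ((Matrix.isUnit_iff_isUnit_det _).2 hM) ?_
      rw [Matrix.mulVec_zero]
      ext u
      refine Eq.trans (congrFun hzw (σ (Sum.inl u))) ?_
      simp [emb]
    rw [hw0, Matrix.mulVec_zero] at hzw
    funext i
    have := congrFun hzw (σ (Sum.inr i))
    simp only [emb, Pi.zero_apply, Pi.sub_apply, Equiv.symm_apply_apply, Sum.elim_inr] at this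
    exact sub_eq_zero.1 this.symm
  · obtain ⟨v, rfl⟩ := Groth.L16.AffineBC.surjective_app_of_epi (cokernel.π φ) hV u
    obtain ⟨z, rfl⟩ := L.surjective v
    obtain ⟨w, hw⟩ := Matrix.mulVec_surjective_iff_isUnit.2 ((Matrix.isUnit_iff_isUnit_det _).2 hM)
      fun u => z (σ (Sum.inl u))
    refine ⟨fun i => (z - M.mulVec w) (σ (Sum.inr i)), ?_⟩
    rw [hlc]
    have : emb (fun i => (z - M.mulVec w) (σ (Sum.inr i))) = z - M.mulVec w := by
      funext i
      obtain ⟨(u | u), rfl⟩ := σ.surjective i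
      · simp only [emb, Equiv.symm_apply_apply, Sum.elim_inl, Pi.zero_apply, Pi.sub_apply]
        exact (sub_eq_zero.2 (congrFun hw u).symm).symm
      · simp [emb]
    rw [this, map_sub, map_sub, ← himg, hπφ, sub_zero]

/-- A homomorphism with an invertible minor of full row rank is surjective on sections. -/
theorem surjective_app_of_minor (hb : IsBasisOn E W b) (hc : IsBasisOn F W c) (φ : E ⟶ F)
    (h' : Fin f → Fin e) (hδ : IsUnit ((homMat b hc φ).submatrix id h').det) {V : X.Opens} (h : V ≤ W) :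
    Function.Surjective (φ.app V) := fun v => by
  classical
  let M := homMat (fun j => rs E h (b j)) (hc.mono h) φ
  have hM : IsUnit (M.submatrix id h').det := by
    have : M.submatrix id h' = (X.presheaf.map (homOfLE h).op).hom.mapMatrix ((homMat b hc φ).submatrix id h') := by
      show (homMat (fun j => rs E h (b j)) (hc.mono h) φ).submatrix _ _ = _
      rw [homMat_rs hc φ h]
      rfl
    rw [this, ← RingHom.map_det]
    exact hδ.map _
  obtain ⟨w, hw⟩ := Matrix.mulVec_surjective_iff_isUnit.2 ((Matrix.isUnit_iff_isUnit_det _).2 hM)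
    (coordEquiv (hc.mono h) v)
  refine ⟨∑ a, w a • rs E h (b (h' a)), ?_⟩
  apply (coordEquiv (hc.mono h)).injective
  rw [← hw, map_sum, map_sum]
  ext i
  simp only [Scheme.Modules.Hom.app_smul, map_smul, Finset.sum_apply, Pi.smul_apply, smul_eq_mul, Matrix.mulVec,
    dotProduct]
  exact Finset.sum_congr rfl fun j _ => mul_comm _ _

end Groth.L24.Degen
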