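import Groth.Agent.L24.Degen.Block
import Groth.Agent.L24.Degen.FullRank
import Groth.Agent.L24.Degen.Twist
import Groth.Agent.L16.ProjSpace.Dim
import Groth.Agent.L16.ProjSpace.Basic
import Groth.Agent.L16.CohSupport
import Groth.Agent.L10.HullFinite
import Groth.Agent.L19.NormalSections
import Groth.Agent.L03.RegularNormal
import Groth.Agent.L03.BlowPt.Rules
import Groth.Agent.L17.DeligneHom
import Groth.Prelude.Def_ShStab

/-!
# General maps between sums of twisting sheaves on the projective plane
-/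

set_option autoImplicit false
set_option linter.style.haveILetI false
set_option maxHeartbeats 1000000
set_option backward.isDefEq.respectTransparency.types false
set_option backward.isDefEq.respectTransparency false

universe u

open CategoryTheory CategoryTheory.Limits AlgebraicGeometry TopologicalSpace

noncomputable section

namespace Groth.L24.Degen

open Groth.L18.Frame (rs ro rs_rs rs_self rs_smul IsFrame)
open Groth.L19.ProjBdl (IsBasisOn lc app_lc app_rs)

section Coproduct

variable {X : Scheme.{u}} {L : X.Modules} {W : X.Opens} {α : ℕ}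

/-- The projections of a finite coproduct. -/
def copr (j : Fin α) : (∐ fun _ : Fin α => L) ⟶ L := Sigma.desc fun i => if i = j then 𝟙 L else 0

theorem ι_copr (i j : Fin α) : Sigma.ι (fun _ : Fin α => L) i ≫ copr j = if i = j then 𝟙 L else 0 := by
  simp [copr]

theorem copr_total : ∑ j, copr (L := L) j ≫ Sigma.ι (fun _ : Fin α => L) j = 𝟙 _ := by
  refine Sigma.hom_ext _ _ fun i => ?_
  rw [Category.comp_id, Preadditive.comp_sum, Finset.sum_eq_single i (fun j _ hj => by
    rw [← Category.assoc, ι_copr, if_neg (Ne.symm hj), zero_comp]) (by simp),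
    ← Category.assoc, ι_copr, if_pos rfl, Category.id_comp]

/-- The basis of a coproduct of copies of a framed module. -/
def coprBasis (e : Γ(L, W)) (j : Fin α) : Γ((∐ fun _ : Fin α => L : X.Modules), W) :=
  (Sigma.ι (fun _ : Fin α => L) j).app W e

theorem copr_app_coprBasis (e : Γ(L, W)) (i j : Fin α) :
    (copr j).app W (coprBasis e i) = if i = j then e else 0 := by
  show (copr j).app W ((Sigma.ι (fun _ : Fin α => L) i).app W e) = _
  rw [app_comp_eq _ _ _ (ι_copr i j)]
  split_ifs <;> rfl

theorem isBasisOn_coprBasis {e : Γ(L, W)} (he : IsFrame L W e) :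
    IsBasisOn (∐ fun _ : Fin α => L) W (coprBasis (α := α) e) := by
  classical
  intro V h
  have hlc : ∀ z : Fin α → Γ(X, V), lc _ (coprBasis (α := α) e) h z =
      ∑ i, (Sigma.ι (fun _ : Fin α => L) i).app V (z i • rs L h e) := fun z =>
    Finset.sum_congr rfl fun i _ => by
      rw [Scheme.Modules.Hom.app_smul, app_rs]
      rfl
  have hp : ∀ (z : Fin α → Γ(X, V)) j, (copr j).app V (lc _ (coprBasis (α := α) e) h z) = z j • rs L h e := fun z j => by
    rw [hlc, map_sum, Finset.sum_eq_single j (fun i _ hi => by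
      rw [app_comp_eq _ _ _ (ι_copr i j), if_neg hi]; rfl) (by simp), app_comp_eq _ _ _ (ι_copr j j), if_pos rfl]
    rfl
  refine ⟨fun z z' hz => funext fun j => (he V h).1 ?_, fun t => ?_⟩
  · show z j • rs L h e = z' j • rs L h e
    rw [← hp, ← hp, hz]
  · choose z hz using fun j => (he V h).2 ((copr j).app V t)
    refine ⟨z, ?_⟩
    rw [hlc]
    have h1 : ∀ i, (Sigma.ι (fun _ : Fin α => L) i).app V (z i • rs L h e) =
        (copr (L := L) i ≫ Sigma.ι (fun _ : Fin α => L) i).app V t := fun i => by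
      rw [show z i • rs L h e = (copr i).app V t from hz i]
      rfl
    simp only [h1]
    let T : ((∐ fun _ : Fin α => L : X.Modules) ⟶ ∐ fun _ : Fin α => L) →+ Γ((∐ fun _ : Fin α => L : X.Modules), V) :=
      AddMonoidHom.mk' (fun ψ => ψ.app V t) fun _ _ => rfl
    show ∑ i, T (copr (L := L) i ≫ Sigma.ι (fun _ : Fin α => L) i) = t
    rw [← map_sum, copr_total]
    rfl

theorem coordEquiv_basis {M : X.Modules} {N : ℕ} {d : Fin N → Γ(M, W)} (hd : IsBasisOn M W d) (i : Fin N) :
    coordEquiv hd (d i) = Pi.single i 1 := by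
  classical
  apply (coordEquiv hd).symm.injective
  rw [LinearEquiv.symm_apply_apply, coordEquiv_symm_apply]
  simp [Pi.single_apply, ite_smul]

/-- An elementary homomorphism out of a coproduct. -/
theorem homMat_single {F : X.Modules} {f : ℕ} {e : Γ(L, W)} {c : Fin f → Γ(F, W)} (hc : IsBasisOn F W c)
    (ψ : L ⟶ F) (y : Fin f) (hψ : ψ.app W e = c y) (j : Fin α) :
    homMat (coprBasis e) hc (copr j ≫ ψ) = Matrix.single y j 1 := by
  classical
  ext u v
  show coordEquiv hc (ψ.app W ((copr j).app W (coprBasis e v))) u = _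
  rw [copr_app_coprBasis]
  by_cases hv : v = j
  · subst hv
    rw [if_pos rfl, hψ, coordEquiv_basis]
    simp [Matrix.single_apply, Pi.single_apply, eq_comm]
  · rw [if_neg hv, map_zero, map_zero]
    simp [Matrix.single_apply, Ne.symm hv]

end Coproduct

variable (k : Type u) [Field k]

local notation "P2" => CohB1.ProjSpace 2 k

/-- `O(-2)^a`. -/
abbrev srcMod (a : ℕ) : (P2).Modules := ∐ fun _ : Fin a => Twist.twistProjSpace 2 k (-2)

/-- `O(-1)^a ⊕ O^b`. -/
abbrev tgtMod (a b : ℕ) : (P2).Modules :=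
  (∐ fun _ : Fin a => Twist.twistProjSpace 2 k (-1)) ⊞ (∐ fun _ : Fin b => Coh.structureModule (P2))

/-- The coordinates. -/
def coordForm (i : Fin 3) : CohB1.polyGrading 2 k 1 := ⟨_, Groth.L16.ProjSpace.X_mem 2 k i⟩

/-- The standard charts. -/
def chartW (i : Fin 3) : (P2).Opens := Proj.basicOpen (CohB1.polyGrading 2 k) (coordForm k i).1

theorem isAffineOpen_chartW (i : Fin 3) : IsAffineOpen (chartW k i) :=
  Proj.isAffineOpen_basicOpen _ _ (coordForm k i).2 one_pos

theorem exists_mem_chartW (x : P2) : ∃ i, x ∈ chartW k i := Groth.L16.ProjSpace.exists_mem_basicOpen_X 2 k x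

theorem one_notMem (W : Opens (ProjectiveSpectrum.top (CohB1.polyGrading 2 k))) (x : W) :
    (⟨1, SetLike.GradedOne.one_mem⟩ : CohB1.polyGrading 2 k 0).1 ∉ x.1.asHomogeneousIdeal :=
  fun h => x.1.isPrime.ne_top ((Ideal.eq_top_iff_one _).mpr h)

/-- The global frame of `O(0)`. -/
def unitSec : Γ(Twist.twistProjSpace 2 k 0, (⊤ : (P2).Opens)) :=
  Groth.L16.ProjTwist.gen (i := 0) (j := 0) (⟨1, SetLike.GradedOne.one_mem⟩ : CohB1.polyGrading 2 k 0)
    ⟨1, SetLike.GradedOne.one_mem⟩ (by simp) _ (one_notMem k _)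

theorem isIso_unitHom : IsIso (Groth.L16.homOfSection _ (unitSec k)) :=
  Groth.L16.isIso_homOfSection _ _ fun V =>
    ⟨Groth.L16.ProjTwist.smul_gen_injective (i := 0) (j := 0) (⟨1, SetLike.GradedOne.one_mem⟩ : CohB1.polyGrading 2 k 0)
        ⟨1, SetLike.GradedOne.one_mem⟩ (by simp) V (one_notMem k V) (one_notMem k V),
      Groth.L16.ProjTwist.smul_gen_surjective (i := 0) (j := 0) (⟨1, SetLike.GradedOne.one_mem⟩ : CohB1.polyGrading 2 k 0)
        ⟨1, SetLike.GradedOne.one_mem⟩ (by simp) V (one_notMem k V) (one_notMem k V)⟩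

theorem unitHom_app (i : Fin 3) :
    (Groth.L16.homOfSection _ (unitSec k)).app (chartW k i) (1 : Γ(P2, chartW k i)) =
      powFrame (coordForm k i) 0 := by
  rw [Groth.L16.homOfSection_app, one_smul]
  refine Subtype.ext (funext fun x => Subtype.ext ?_)
  show Localization.mk (1 : MvPolynomial (Fin 3) k) _ = Localization.mk ((coordForm k i).1 ^ (0 : ℤ).toNat) _
  rw [Localization.mk_eq_mk_iff, Localization.r_iff_exists]
  exact ⟨1, by simp⟩

/-- Frames of the structure sheaf. -/
theorem isFrame_one {X : Scheme.{u}} (W : X.Opens) : IsFrame (Coh.structureModule X) W (1 : Γ(X, W)) := fun V h => by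
  have h1 : rs (Coh.structureModule X) h (1 : Γ(X, W)) = (1 : Γ(X, V)) := map_one (X.presheaf.map (homOfLE h).op).hom
  refine ⟨fun a a' e => ?_, fun t => ⟨t, ?_⟩⟩
  · have : a * (1 : Γ(X, V)) = a' * 1 := by
      rw [← h1]; exact e
    simpa using this
  · show t • rs (Coh.structureModule X) h (1 : Γ(X, W)) = t
    rw [h1]
    show (show Γ(X, V) from t) * 1 = _
    exact mul_one _

/-- Basis of the source on a chart. -/
abbrev srcBasis (a : ℕ) (i : Fin 3) : Fin a → Γ(srcMod k a, chartW k i) :=
  coprBasis (L := Twist.twistProjSpace 2 k (-2)) (powFrame (coordForm k i) (-2))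

/-- Basis of the target on a chart. -/
abbrev tgtBasis (a b : ℕ) (i : Fin 3) : Fin (a + b) → Γ(tgtMod k a b, chartW k i) :=
  biBasis (coprBasis (L := Twist.twistProjSpace 2 k (-1)) (powFrame (coordForm k i) (-1)))
    (coprBasis (L := Coh.structureModule (P2)) (1 : Γ(P2, chartW k i)))

theorem isBasis_src (a : ℕ) (i : Fin 3) : IsBasisOn (srcMod k a) (chartW k i) (srcBasis k a i) :=
  isBasisOn_coprBasis (isFrame_powFrame _ _)

theorem isBasis_fst (a : ℕ) (i : Fin 3) :
    IsBasisOn (∐ fun _ : Fin a => Twist.twistProjSpace 2 k (-1)) (chartW k i)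
      (coprBasis (L := Twist.twistProjSpace 2 k (-1)) (powFrame (coordForm k i) (-1))) :=
  isBasisOn_coprBasis (isFrame_powFrame _ _)

theorem isBasis_tgt (a b : ℕ) (i : Fin 3) : IsBasisOn (tgtMod k a b) (chartW k i) (tgtBasis k a b i) :=
  isBasisOn_biBasis (isBasis_fst k a i) (isBasisOn_coprBasis (isFrame_one _))

theorem exists_elementary (e a b : ℕ) (i : Fin 3) (y : Fin (a + b)) (j : Fin e) :
    ∃ ψ : srcMod k e ⟶ tgtMod k a b, homMat (srcBasis k e i) (isBasis_tgt k a b i) ψ = Matrix.single y j 1 := by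
  haveI := isIso_unitHom k
  obtain ⟨(y | y), rfl⟩ := finSumFinEquiv.surjective y
  · refine ⟨copr j ≫ mulHom (-2) (d := 1) (n' := -1) (by norm_num)
      ⟨_, pow_mem (coordForm k i) 1⟩ ≫ Sigma.ι (fun _ : Fin a => Twist.twistProjSpace 2 k (-1)) y ≫ biprod.inl, homMat_single _ _ _ ?_ j⟩
    show (biprod.inl : _ ⟶ tgtMod k a b).app _ ((Sigma.ι (fun _ : Fin a => Twist.twistProjSpace 2 k (-1)) y).app _
      ((mulHom (-2) (d := 1) (n' := -1) (by norm_num) ⟨_, pow_mem (coordForm k i) 1⟩).app
        (Proj.basicOpen (CohB1.polyGrading 2 k) (coordForm k i).1) (powFrame (coordForm k i) (-2)))) = _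
    rw [mulHom_powFrame]
    simp [tgtBasis, biBasis]
    rfl
  · refine ⟨copr j ≫ (mulHom (-2) (d := 2) (n' := 0) (by norm_num) ⟨_, pow_mem (coordForm k i) 2⟩ :
      Twist.twistProjSpace 2 k (-2) ⟶ Twist.twistProjSpace 2 k 0) ≫
      inv (Groth.L16.homOfSection (Twist.twistProjSpace 2 k 0) (unitSec k)) ≫ Sigma.ι (fun _ : Fin b => Coh.structureModule (P2)) y ≫ biprod.inr, homMat_single _ _ _ ?_ j⟩
    show (biprod.inr : _ ⟶ tgtMod k a b).app _ ((Sigma.ι (fun _ : Fin b => Coh.structureModule (P2)) y).app _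
      ((inv (Groth.L16.homOfSection (Twist.twistProjSpace 2 k 0) (unitSec k))).app _
      ((mulHom (-2) (d := 2) (n' := 0) (by norm_num) ⟨_, pow_mem (coordForm k i) 2⟩).app
        (Proj.basicOpen (CohB1.polyGrading 2 k) (coordForm k i).1) (powFrame (coordForm k i) (-2))))) = _
    rw [mulHom_powFrame]
    have h1 : (inv (Groth.L16.homOfSection (Twist.twistProjSpace 2 k 0) (unitSec k))).app (chartW k i) (powFrame (coordForm k i) 0) =
        (1 : Γ(P2, chartW k i)) := by
      rw [← unitHom_app]
      exact app_comp_eq _ _ (𝟙 _) (IsIso.hom_inv_id _) _ _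
    show (biprod.inr : _ ⟶ tgtMod k a b).app (chartW k i) ((Sigma.ι (fun _ : Fin b => Coh.structureModule (P2)) y).app
      (chartW k i) ((inv (Groth.L16.homOfSection (Twist.twistProjSpace 2 k 0) (unitSec k))).app (chartW k i) (powFrame (coordForm k i) 0))) = _
    rw [h1]
    simp [tgtBasis, biBasis]
    rfl

section Plane

variable [IsAlgClosed k] [CharZero k]

theorem plane_facts : IsIntegral (P2) ∧ Smooth ((P2) ↘ Spec (CommRingCat.of k)) ∧
    IsProper ((P2) ↘ Spec (CommRingCat.of k)) ∧ topologicalKrullDim (P2) = (2 : ℕ) :=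
  ⟨Groth.L16.ProjSpace.isIntegral (n := 2) (R := k), inferInstanceAs (Smooth (CohB1.ProjSpace.toSpec 2 k)),
    inferInstanceAs (IsProper (CohB1.ProjSpace.toSpec 2 k)), Groth.L16.ProjSpace.topologicalKrullDim_eq_of_field (n := 2) k⟩

variable (e a b : ℕ)

theorem qcoh_src_tgt : Coh.IsCoh (srcMod k e) ∧ Coh.IsCoh (tgtMod k a b) := by
  haveI : IsLocallyNoetherian (P2) := by
    haveI := (plane_facts k).2.1
    exact LocallyOfFiniteType.isLocallyNoetherian ((P2) ↘ Spec (CommRingCat.of k))
  refine ⟨Groth.L16.NegPow.isCoh_of_isFinLocFree (Groth.L16.HomSh.isFinLocFree_of_bases fun x => ?_),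
    Groth.L16.NegPow.isCoh_of_isFinLocFree (Groth.L16.HomSh.isFinLocFree_of_bases fun x => ?_)⟩
  · obtain ⟨i, hi⟩ := exists_mem_chartW k x
    exact ⟨_, _, _, hi, isBasis_src k e i⟩
  · obtain ⟨i, hi⟩ := exists_mem_chartW k x
    exact ⟨_, _, _, hi, isBasis_tgt k a b i⟩

/-- A basis of the space of maps. -/
def homBasis : Σ m : ℕ, Module.Basis (Fin m) k (srcMod k e ⟶ tgtMod k a b) :=
  haveI := (plane_facts k).2.2.1
  haveI := Groth.L14.Quot.finite_hom (k := k) (qcoh_src_tgt k e a b).1 (qcoh_src_tgt k e a b).2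
  ⟨_, Module.finBasis k _⟩

theorem span_tgt (i : Fin 3) :
    Submodule.span Γ(P2, chartW k i)
      (Set.range fun l => homMat (srcBasis k e i) (isBasis_tgt k a b i) ((homBasis k e a b).2 l)) = ⊤ := by
  classical
  refine eq_top_iff.2 fun M _ => ?_
  rw [Matrix.matrix_eq_sum_single M]
  refine Submodule.sum_mem _ fun y _ => Submodule.sum_mem _ fun j _ => ?_
  rw [show Matrix.single y j (M y j) = M y j • Matrix.single y j (1 : Γ(P2, chartW k i)) by
    rw [Matrix.smul_single, smul_eq_mul, mul_one]]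
  refine Submodule.smul_mem _ _ ?_
  obtain ⟨ψ, hψ⟩ := exists_elementary k e a b i y j
  rw [← hψ, ← (homBasis k e a b).2.sum_repr ψ, homMat_sum]
  exact Submodule.sum_mem _ fun l _ => Submodule.smul_mem _ _ (Submodule.subset_span ⟨l, rfl⟩)

theorem closure_generic_dim (i : Fin 3) (hi : Nonempty (chartW k i)) :
    ∃ (η : P2) (_ : η ∈ chartW k i), topologicalKrullDim (closure ({η} : Set (P2))) = (2 : ℕ) := by
  haveI := (plane_facts k).1
  obtain ⟨⟨z, hz⟩⟩ := hi
  refine ⟨genericPoint (P2), ((genericPoint_spec (P2)).mem_open_set_iff (chartW k i).2).2 ⟨z, trivial, hz⟩, ?_⟩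
  rw [genericPoint_closure, (Homeomorph.Set.univ (P2)).isHomeomorph.topologicalKrullDim_eq]
  exact (plane_facts k).2.2.2

/-- A general map is injective. -/
theorem exists_poly_gaeta (hef : e ≤ a + b) :
    ∃ p : MvPolynomial (Fin (homBasis k e a b).1) k, p ≠ 0 ∧ ∀ φ : srcMod k e ⟶ tgtMod k a b,
      MvPolynomial.eval ((homBasis k e a b).2.equivFun φ) p ≠ 0 →
        (∀ (i : Fin 3) (y : P2) (hy : y ∈ chartW k i),
          CAlgX.minorIdeal (homMat (srcBasis k e i) (isBasis_tgt k a b i) φ) e ≤
              ((isAffineOpen_chartW k i).primeIdealOf ⟨y, hy⟩).asIdeal →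
            1 ≤ e ∧ a + b - e + 1 ≤ 2 ∧
              topologicalKrullDim (closure ({y} : Set (P2))) ≤ ((2 - (a + b - e + 1) : ℕ) : WithBot ℕ∞)) ∧
        (∀ i : Fin 3, Nonempty (chartW k i) → ∃ (g : Fin e → Fin (a + b)) (h : Fin e → Fin e),
          ((homMat (srcBasis k e i) (isBasis_tgt k a b i) φ).submatrix g h).det ≠ 0) ∧ Mono φ := by
  haveI := (plane_facts k).1
  haveI := (plane_facts k).2.1
  obtain ⟨p, hp0, hp⟩ := exists_poly_rank_ge (k := k) (t := e) 2 (plane_facts k).2.2.2 le_rfl hef
    (chartW k) (isAffineOpen_chartW k) (isBasis_src k e) (isBasis_tgt k a b) (homBasis k e a b).2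
    (span_tgt k e a b)
  refine ⟨p, hp0, fun φ hφ => ?_⟩
  have h0 : ∀ (i : Fin 3) (y : P2) (hy : y ∈ chartW k i),
      CAlgX.minorIdeal (homMat (srcBasis k e i) (isBasis_tgt k a b i) φ) e ≤
          ((isAffineOpen_chartW k i).primeIdealOf ⟨y, hy⟩).asIdeal →
        1 ≤ e ∧ a + b - e + 1 ≤ 2 ∧
          topologicalKrullDim (closure ({y} : Set (P2))) ≤ ((2 - (a + b - e + 1) : ℕ) : WithBot ℕ∞) := fun i y hy h => by
    simpa using hp _ φ ((homBasis k e a b).2.sum_equivFun φ).symm hφ i y hy h
  have h1 : ∀ i : Fin 3, Nonempty (chartW k i) → ∃ (g : Fin e → Fin (a + b)) (h : Fin e → Fin e),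
      ((homMat (srcBasis k e i) (isBasis_tgt k a b i) φ).submatrix g h).det ≠ 0 := fun i hi => by
    obtain ⟨η, hη, hdim⟩ := closure_generic_dim k i hi
    by_contra hall
    push Not at hall
    obtain ⟨-, h2, h3⟩ := h0 i η hη (Ideal.span_le.2 (by
      rintro _ ⟨⟨g, h⟩, rfl⟩
      show ((homMat (srcBasis k e i) (isBasis_tgt k a b i) φ).submatrix g h).det ∈ _
      rw [hall g h]
      exact Ideal.zero_mem _))
    rw [hdim] at h3
    have : 2 ≤ 2 - (a + b - e + 1) := by exact_mod_cast h3
    omega
  exact ⟨h0, h1, mono_of_minors φ (chartW k) (exists_mem_chartW k) (isBasis_src k e) (isBasis_tgt k a b) h1⟩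

theorem locFree_coker (hr : e + 2 ≤ a + b) :
    ∃ (m : ℕ) (c : (srcMod k e ⟶ tgtMod k a b) ≃ₗ[k] (Fin m → k)) (p : MvPolynomial (Fin m) k), p ≠ 0 ∧
      ∀ φ : srcMod k e ⟶ tgtMod k a b, MvPolynomial.eval (c φ) p ≠ 0 →
        Mono φ ∧ FlatMod.IsFinLocFreeOfRank (a + b - e) (cokernel φ) := by
  haveI := (plane_facts k).1
  obtain ⟨p, hp0, hp⟩ := exists_poly_gaeta k e a b (by omega)
  refine ⟨_, (homBasis k e a b).2.equivFun, p, hp0, fun φ hφ => ?_⟩
  obtain ⟨h0, -, hmono⟩ := hp φ hφ
  refine ⟨hmono, Groth.L12.FinCov.isFinLocFreeOfRank_of_bases fun y => ?_⟩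
  haveI : Coh.IsQCoh (srcMod k e) := (qcoh_src_tgt k e a b).1.1
  haveI : Coh.IsQCoh (tgtMod k a b) := (qcoh_src_tgt k e a b).2.1
  obtain ⟨i, hy⟩ := exists_mem_chartW k y
  let M := homMat (srcBasis k e i) (isBasis_tgt k a b i) φ
  obtain ⟨σ, τ, hδ⟩ := exists_corner (r := e) le_rfl (by omega) M
    ((isAffineOpen_chartW k i).primeIdealOf ⟨y, hy⟩).asIdeal (fun hle => by have := h0 i y hy hle; omega)
  have hτ : Function.Bijective fun u : Fin e => τ (Sum.inl u) :=
    Finite.injective_iff_bijective.1 fun _ _ h => Sum.inl_injective (τ.injective h)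
  set d := (M.submatrix (σ ∘ Sum.inl) id).det
  have hd : d ∉ ((isAffineOpen_chartW k i).primeIdealOf ⟨y, hy⟩).asIdeal := fun hd => hδ (by
    have : (M.submatrix σ τ).toBlocks₁₁ = (M.submatrix (σ ∘ Sum.inl) id).submatrix id (Equiv.ofBijective _ hτ) := rfl
    rw [this, Matrix.det_permute']
    exact Ideal.mul_mem_left _ _ hd)
  have hle : (P2).basicOpen d ≤ chartW k i := (P2).basicOpen_le d
  refine ⟨(P2).basicOpen d, _, ?_, isBasisOn_coker ((isBasis_src k e i).mono hle) ((isBasis_tgt k a b i).mono hle) φ σ ?_⟩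
  · refine (congrArg (· ∈ (P2).basicOpen d) ((isAffineOpen_chartW k i).fromSpec_primeIdealOf ⟨y, hy⟩)).mp ?_
    show (isAffineOpen_chartW k i).primeIdealOf ⟨y, hy⟩ ∈ (isAffineOpen_chartW k i).fromSpec ⁻¹ᵁ (P2).basicOpen d
    rw [IsAffineOpen.fromSpec_preimage_basicOpen]
    exact hd
  · rw [homMat_rs (isBasis_tgt k a b i) φ hle, Matrix.submatrix_map]
    have := (P2).toRingedSpace.isUnit_res_basicOpen d
    rw [show (((M.submatrix (σ ∘ Sum.inl) id).map (ro hle))).det = ro hle d from
      (RingHom.map_det ((P2).presheaf.map (homOfLE hle).op).hom _).symm]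
    exact this

theorem gg_coker (hef : e ≤ a + b) (h3 : a + 2 ≤ e) :
    ∃ (m : ℕ) (c : (srcMod k e ⟶ tgtMod k a b) ≃ₗ[k] (Fin m → k)) (p : MvPolynomial (Fin m) k), p ≠ 0 ∧
      ∀ φ : srcMod k e ⟶ tgtMod k a b, MvPolynomial.eval (c φ) p ≠ 0 →
        Mono φ ∧ Curv2.IsGloballyGenerated (cokernel φ) := by
  classical
  haveI := (plane_facts k).1
  haveI := (plane_facts k).2.1
  obtain ⟨p, hp0, hp⟩ := exists_poly_gaeta k e a b hef
  let Bm := fun l => (homBasis k e a b).2 l ≫ (biprod.fst : tgtMod k a b ⟶ _)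
  have hspan : ∀ i, Submodule.span Γ(P2, chartW k i)
      (Set.range fun l => homMat (srcBasis k e i) (isBasis_fst k a i) (Bm l)) = ⊤ := fun i => by
    refine eq_top_iff.2 fun M _ => ?_
    rw [Matrix.matrix_eq_sum_single M]
    refine Submodule.sum_mem _ fun y _ => Submodule.sum_mem _ fun j _ => ?_
    rw [show Matrix.single y j (M y j) = M y j • Matrix.single y j (1 : Γ(P2, chartW k i)) by
      rw [Matrix.smul_single, smul_eq_mul, mul_one]]
    refine Submodule.smul_mem _ _ ?_
    obtain ⟨ψ, hψ⟩ := exists_elementary k e a b i (finSumFinEquiv (Sum.inl y)) j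
    have h1 : homMat (srcBasis k e i) (isBasis_fst k a i) (ψ ≫ biprod.fst) = Matrix.single y j 1 := by
      ext u v
      refine Eq.trans ((coord_biBasis (isBasis_fst k a i) (isBasisOn_coprBasis (α := b) (isFrame_one _))
        (ψ.app _ (srcBasis k e i v))).1 u).symm ?_
      refine (congrFun (congrFun hψ (finSumFinEquiv (Sum.inl u))) v).trans ?_
      simp [Matrix.single_apply]
    rw [← h1, ← (homBasis k e a b).2.sum_repr ψ]
    simp only [Preadditive.sum_comp, Linear.smul_comp]
    rw [homMat_sum]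
    exact Submodule.sum_mem _ fun l _ => Submodule.smul_mem _ _ (Submodule.subset_span ⟨l, rfl⟩)
  obtain ⟨q, hq0, hq⟩ := exists_poly_rank_ge (k := k) (t := a) 2 (plane_facts k).2.2.2 (by omega) le_rfl
    (chartW k) (isAffineOpen_chartW k) (isBasis_src k e) (isBasis_fst k a) Bm hspan
  refine ⟨_, (homBasis k e a b).2.equivFun, p * q, mul_ne_zero hp0 hq0, fun φ hφ => ?_⟩
  rw [map_mul, mul_ne_zero_iff] at hφ
  obtain ⟨-, -, hmono⟩ := hp φ hφ.1
  refine ⟨hmono, ?_⟩
  have hsum : φ ≫ biprod.fst = ∑ l, (homBasis k e a b).2.equivFun φ l • Bm l := by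
    conv_lhs => rw [← (homBasis k e a b).2.sum_equivFun φ]
    simp only [Preadditive.sum_comp, Linear.smul_comp, Bm]
  haveI hepi : Epi (φ ≫ (biprod.fst : tgtMod k a b ⟶ _)) := by
    refine Preadditive.epi_of_cancel_zero _ fun {G} g hg => Groth.L18.Ample.eq_zero_of_local g fun V s x hx => ?_
    obtain ⟨i, hi⟩ := exists_mem_chartW k x
    let M := homMat (srcBasis k e i) (isBasis_fst k a i) (φ ≫ biprod.fst)
    obtain ⟨σ, τ, hδ⟩ := exists_corner (r := a) (by omega) le_rfl M
      ((isAffineOpen_chartW k i).primeIdealOf ⟨x, hi⟩).asIdeal (fun hle => by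
        have h3' := (hq _ _ hsum hφ.2 i x hi hle).2.1
        simp only [Nat.sub_self, zero_add, one_mul] at h3'
        omega)
    have hσ : Function.Bijective fun u : Fin a => σ (Sum.inl u) :=
      Finite.injective_iff_bijective.1 fun _ _ h => Sum.inl_injective (σ.injective h)
    set d := (M.submatrix id (τ ∘ Sum.inl)).det
    have hd : d ∉ ((isAffineOpen_chartW k i).primeIdealOf ⟨x, hi⟩).asIdeal := fun hd => hδ (by
      have : (M.submatrix σ τ).toBlocks₁₁ = (M.submatrix id (τ ∘ Sum.inl)).submatrix (Equiv.ofBijective _ hσ) id := rfl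
      rw [this, Matrix.det_permute]
      exact Ideal.mul_mem_left _ _ hd)
    have hxd : x ∈ (P2).basicOpen d := by
      refine (congrArg (· ∈ (P2).basicOpen d) ((isAffineOpen_chartW k i).fromSpec_primeIdealOf ⟨x, hi⟩)).mp ?_
      show (isAffineOpen_chartW k i).primeIdealOf ⟨x, hi⟩ ∈ (isAffineOpen_chartW k i).fromSpec ⁻¹ᵁ (P2).basicOpen d
      rw [IsAffineOpen.fromSpec_preimage_basicOpen]
      exact hd
    have hle : (P2).basicOpen d ≤ chartW k i := (P2).basicOpen_le d
    refine ⟨V ⊓ (P2).basicOpen d, inf_le_left, ⟨hx, hxd⟩, ?_⟩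
    obtain ⟨u, hu⟩ := surjective_app_of_minor ((isBasis_src k e i).mono hle) ((isBasis_fst k a i).mono hle)
      (φ ≫ biprod.fst) (τ ∘ Sum.inl) (by
        rw [homMat_rs (isBasis_fst k a i) _ hle, Matrix.submatrix_map,
          show (((M.submatrix id (τ ∘ Sum.inl)).map (ro hle))).det = ro hle d from
            (RingHom.map_det ((P2).presheaf.map (homOfLE hle).op).hom _).symm]
        exact (P2).toRingedSpace.isUnit_res_basicOpen d)
      inf_le_right (rs _ inf_le_left s)
    rw [← hu]
    exact congr($(congrArg (fun ψ => Scheme.Modules.Hom.app ψ _) hg) u)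
  haveI : Epi ((biprod.inr : _ ⟶ tgtMod k a b) ≫ cokernel.π φ) := by
    refine Preadditive.epi_of_cancel_zero _ fun {G} g hg => ?_
    rw [← cancel_epi (cokernel.π φ), comp_zero]
    have h4 : cokernel.π φ ≫ g = biprod.fst ≫ (biprod.inl ≫ cokernel.π φ ≫ g) := by
      refine biprod.hom_ext' _ _ ?_ ?_
      · simp
      · rw [← Category.assoc, hg, biprod.inr_fst_assoc, zero_comp]
    rw [h4]
    have h5 : (φ ≫ biprod.fst) ≫ (biprod.inl ≫ cokernel.π φ ≫ g) = 0 := by
      rw [Category.assoc, ← h4, ← Category.assoc, cokernel.condition, zero_comp]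
    have h6 : biprod.inl ≫ cokernel.π φ ≫ g = 0 := (cancel_epi (φ ≫ biprod.fst)).1 (by rw [h5, comp_zero])
    rw [h6, comp_zero]
  let down : (SheafOfModules.free (ULift.{u} (Fin b)) : (P2).Modules) ⟶ ∐ fun _ : Fin b => Coh.structureModule (P2) :=
    Sigma.desc fun i : ULift.{u} (Fin b) => Sigma.ι (fun _ : Fin b => Coh.structureModule (P2)) i.down
  haveI : Epi down := by
    let up : (∐ fun _ : Fin b => Coh.structureModule (P2)) ⟶ (SheafOfModules.free (ULift.{u} (Fin b)) : (P2).Modules) :=
      Sigma.desc fun i : Fin b => Sigma.ι (fun _ : ULift.{u} (Fin b) => Coh.structureModule (P2)) ⟨i⟩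
    haveI : IsSplitEpi down := IsSplitEpi.mk' ⟨up, Sigma.hom_ext _ _ fun i => by simp [up, down]⟩
    infer_instance
  exact ⟨_, down ≫ (biprod.inr : _ ⟶ tgtMod k a b) ≫ cokernel.π φ, epi_comp _ _⟩

theorem pure_coker (hr : a + b = e + 1) :
    ∃ (m : ℕ) (c : (srcMod k e ⟶ tgtMod k a b) ≃ₗ[k] (Fin m → k)) (p : MvPolynomial (Fin m) k), p ≠ 0 ∧
      ∀ φ : srcMod k e ⟶ tgtMod k a b, MvPolynomial.eval (c φ) p ≠ 0 →
        Mono φ ∧ Coh.IsCoh (cokernel φ) ∧ ¬ IsZero (cokernel φ) ∧ ShStab.IsPure (P2) (cokernel φ) 2 := by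
  classical
  haveI := (plane_facts k).1
  haveI := (plane_facts k).2.1
  haveI := (plane_facts k).2.2.1
  obtain ⟨p, hp0, hp⟩ := exists_poly_gaeta k e a b (by omega)
  refine ⟨_, (homBasis k e a b).2.equivFun, p, hp0, fun φ hφ => ?_⟩
  obtain ⟨h0, h1, hmono⟩ := hp φ hφ
  haveI : IsLocallyNoetherian (P2) := LocallyOfFiniteType.isLocallyNoetherian ((P2) ↘ Spec (CommRingCat.of k))
  have hcoh := (Groth.L16.CohKernel.isCoh_kernel_cokernel (qcoh_src_tgt k e a b).1 (qcoh_src_tgt k e a b).2 φ).2
  haveI : Coh.IsQCoh (srcMod k e) := (qcoh_src_tgt k e a b).1.1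
  haveI : Coh.IsQCoh (tgtMod k a b) := (qcoh_src_tgt k e a b).2.1
  haveI : Coh.IsQCoh (cokernel φ) := hcoh.1
  refine ⟨hmono, hcoh, fun hz => ?_, fun F ι hι hF hF0 => ?_⟩
  · obtain ⟨y⟩ := (inferInstance : Nonempty (P2))
    obtain ⟨i, hy⟩ := exists_mem_chartW k y
    haveI : Nonempty (chartW k i) := ⟨⟨y, hy⟩⟩
    haveI : Subsingleton Γ(cokernel φ, chartW k i) := ⟨fun u v => by
      have h2 : (𝟙 (cokernel φ)) = 0 := hz.eq_of_src _ _
      have hu := congr($(congrArg (fun ψ => Scheme.Modules.Hom.app ψ (chartW k i)) h2) u)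
      have hv := congr($(congrArg (fun ψ => Scheme.Modules.Hom.app ψ (chartW k i)) h2) v)
      exact hu.trans hv.symm⟩
    have h3 := fitting_coker (isAffineOpen_chartW k i) (isBasis_src k e i) (isBasis_tgt k a b i) φ 0
    rw [Nat.sub_zero] at h3
    have h4 : CAlgX.minorIdeal (homMat (srcBasis k e i) (isBasis_tgt k a b i) φ) (a + b) = ⊥ := by
      refine le_bot_iff.1 (Ideal.span_le.2 ?_)
      rintro _ ⟨⟨g, h⟩, rfl⟩
      obtain ⟨u, v, hne, huv⟩ := Fintype.exists_ne_map_eq_of_card_lt h (by simp; omega)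
      show ((homMat (srcBasis k e i) (isBasis_tgt k a b i) φ).submatrix g h).det ∈ (⊥ : Ideal Γ(P2, chartW k i))
      rw [Matrix.det_zero_of_column_eq hne (fun l => by simp [huv])]
      exact Ideal.zero_mem _
    rw [h4] at h3
    have h5 : (1 : Γ(P2, chartW k i)) ∈ Fitt.ideal Γ(P2, chartW k i) Γ(cokernel φ, chartW k i) 0 :=
      Ideal.subset_span ⟨0, finZeroElim, 0, Subsingleton.elim _ _, fun i => i.elim0, by simp⟩
    rw [h3] at h5
    exact one_ne_zero (Ideal.mem_bot.1 h5)
  · -- the cokernel is torsion free on the charts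
    have htf : ∀ (i : Fin 3) (c : Γ(P2, chartW k i)) (u : Γ(cokernel φ, chartW k i)),
        c ≠ 0 → c • u = 0 → u = 0 := by
      intro i c u hc hcu
      have hne : Nonempty (chartW k i) := by
        by_contra hempty
        rw [not_nonempty_iff] at hempty
        have : chartW k i = ⊥ := eq_bot_iff.2 fun x hx => (hempty.false ⟨x, hx⟩).elim
        haveI : Subsingleton Γ(P2, chartW k i) := by
          rw [this]; exact CommRingCat.subsingleton_of_isTerminal (P2).sheaf.isTerminalOfEmpty
        exact hc (Subsingleton.elim _ _)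
      haveI := hne
      haveI : IsNoetherianRing Γ(P2, chartW k i) :=
        IsLocallyNoetherian.component_noetherian ⟨chartW k i, isAffineOpen_chartW k i⟩
      haveI : IsIntegrallyClosed Γ(P2, chartW k i) :=
        Groth.L19.NormalSec.isIntegrallyClosed_sections (fun x => by
          haveI := Groth.L03.SurfAdj.reg_of_smooth k x
          exact Groth.L03.RegularNormal.isIntegrallyClosed _) (chartW k i)
      let hb := isBasis_src k e i
      let hc' := isBasis_tgt k a b i
      let M := homMat (srcBasis k e i) hc' φ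
      let L := (coordEquiv hc').symm
      obtain ⟨v, rfl⟩ := Groth.L16.AffineBC.surjective_app_of_epi (cokernel.π φ) (isAffineOpen_chartW k i) u
      obtain ⟨z, rfl⟩ := L.surjective v
      obtain ⟨s, hs⟩ := Groth.L17.BC.Cochains.exact_app (S := ShortComplex.mk φ (cokernel.π φ) (cokernel.condition φ))
        (ShortComplex.exact_of_g_is_cokernel _ (cokernelIsCokernel φ)) (isAffineOpen_chartW k i) (c • L z)
        (by rw [← hcu]; exact (cokernel.π φ).app_smul _ _)
      obtain ⟨w, rfl⟩ := (hb (chartW k i) le_rfl).2 s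
      have hsum : φ.app (chartW k i) (∑ j, w j • srcBasis k e i j) = c • L z := by
        rw [← hs]
        simp [lc, rs_self]
      rw [app_eq_mulVec hc', ← map_smul] at hsum
      have hMw : M.mulVec w = c • z := L.injective hsum
      let K := (P2).functionField
      have hdiv : ∀ j, ∃ w₀ : Γ(P2, chartW k i), w j = c * w₀ := by
        intro j
        let Kf := FractionRing Γ(P2, chartW k i)
        have hmem : algebraMap _ Kf (w j) / algebraMap _ Kf c ∈ Set.range (algebraMap Γ(P2, chartW k i) Kf) := by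
          refine Groth.L10.Hull.mem_range_of_height_one _ fun Q _ hQ => ?_
          let q : PrimeSpectrum Γ(P2, chartW k i) := ⟨Q, inferInstance⟩
          let y := (isAffineOpen_chartW k i).fromSpec q
          have hy : y ∈ chartW k i := (isAffineOpen_chartW k i).range_fromSpec.le ⟨q, rfl⟩
          have hq : (isAffineOpen_chartW k i).primeIdealOf ⟨y, hy⟩ = q :=
            (isAffineOpen_chartW k i).fromSpec.isOpenEmbedding.injective
              ((isAffineOpen_chartW k i).fromSpec_primeIdealOf _)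
          have hnle : ¬ CAlgX.minorIdeal M e ≤ Q := by
            intro hle
            have h6 := h0 i y hy (by rw [hq]; exact hle)
            have hcl : IsClosed ({y} : Set (P2)) := by
              rw [← closure_subset_iff_isClosed]
              intro x hx
              by_contra hxy
              let C : IrreducibleCloseds (P2) :=
                ⟨closure {y}, isIrreducible_singleton.closure, isClosed_closure⟩
              let D : IrreducibleCloseds (P2) :=
                ⟨closure {x}, isIrreducible_singleton.closure, isClosed_closure⟩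
              let C' : IrreducibleCloseds (closure ({y} : Set (P2))) :=
                ⟨Set.univ, by
                  haveI : IrreducibleSpace (closure ({y} : Set (P2))) :=
                    Subtype.irreducibleSpace isIrreducible_singleton.closure
                  exact IrreducibleSpace.isIrreducible_univ _, isClosed_univ⟩
              let D' : IrreducibleCloseds (closure ({y} : Set (P2))) :=
                ⟨closure {⟨x, hx⟩}, isIrreducible_singleton.closure, isClosed_closure⟩
              have hlt : D' < C' := by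
                refine lt_of_le_of_ne (fun z _ => trivial) fun hDC => hxy ?_
                have h7 : (⟨y, subset_closure rfl⟩ : closure ({y} : Set (P2))) ∈
                    closure ({⟨x, hx⟩} : Set (closure ({y} : Set (P2)))) := by
                  have := congrArg (fun S : IrreducibleCloseds _ => (S : Set (closure ({y} : Set (P2))))) hDC
                  exact this.ge trivial
                have h8 : x ⤳ y := by
                  rw [← specializes_iff_mem_closure] at h7
                  exact h7.map continuous_subtype_val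
                have h9 : y ⤳ x := specializes_iff_mem_closure.2 hx
                exact (h8.antisymm h9).eq
              have h10 : (1 : WithBot ℕ∞) ≤ topologicalKrullDim (closure ({y} : Set (P2))) :=
                Order.one_le_krullDim_iff.2 ⟨D', C', hlt⟩
              have h11 := h10.trans h6.2.2
              have : 1 ≤ 2 - (a + b - e + 1) := by exact_mod_cast h11
              omega
            have h12 := Groth.L03.BlowPt.ringKrullDim_stalk_closed k (plane_facts k).2.2.2 hcl
            letI := TopCat.Presheaf.algebra_section_stalk (P2).presheaf ⟨y, hy⟩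
            haveI := (isAffineOpen_chartW k i).isLocalization_stalk ⟨y, hy⟩
            rw [IsLocalization.AtPrime.ringKrullDim_eq_height ((isAffineOpen_chartW k i).primeIdealOf ⟨y, hy⟩).asIdeal,
              hq, hQ] at h12
            exact absurd h12 (by norm_num)
          obtain ⟨_, ⟨⟨g, h⟩, rfl⟩, hgh⟩ := Set.not_subset.1 fun hs => hnle (Ideal.span_le.2 hs)
          have hh : Function.Bijective h := Finite.injective_iff_bijective.1 fun s t hst => by
            by_contra hne'
            refine hgh ?_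
            show (M.submatrix g h).det ∈ Q
            rw [Matrix.det_zero_of_column_eq hne' fun l => by simp [hst]]
            exact Ideal.zero_mem _
          refine ⟨_, hgh, ?_⟩
          have hsub : (M.submatrix g h).mulVec (w ∘ h) = c • (z ∘ g) := by
            ext u
            have := congrFun hMw (g u)
            simp only [Matrix.mulVec, dotProduct, Pi.smul_apply] at this ⊢
            rw [← (Equiv.ofBijective h hh).sum_comp] at this
            exact this
          have h13 := congrArg (M.submatrix g h).adjugate.mulVec hsub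
          rw [Matrix.mulVec_mulVec, Matrix.adjugate_mul, Matrix.smul_mulVec, Matrix.one_mulVec, Matrix.mulVec_smul] at h13
          obtain ⟨u, rfl⟩ := hh.2 j
          have h14 := congrFun h13 u
          simp only [Pi.smul_apply, smul_eq_mul, Function.comp_apply] at h14
          refine ⟨(M.submatrix g h).adjugate.mulVec (z ∘ g) u, ?_⟩
          have hc0 : algebraMap Γ(P2, chartW k i) Kf c ≠ 0 :=
            (map_ne_zero_iff _ (IsFractionRing.injective _ _)).2 hc
          rw [mul_div_assoc', eq_div_iff hc0, ← map_mul, ← map_mul]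
          congr 1
          linear_combination -h14
        obtain ⟨w₀, hw₀⟩ := hmem
        refine ⟨w₀, IsFractionRing.injective Γ(P2, chartW k i) Kf ?_⟩
        have hc0 : algebraMap Γ(P2, chartW k i) Kf c ≠ 0 :=
          (map_ne_zero_iff _ (IsFractionRing.injective _ _)).2 hc
        rw [eq_div_iff hc0] at hw₀
        rw [map_mul, ← hw₀, mul_comm]
      choose w₀ hw₀ using hdiv
      have hz : z = M.mulVec w₀ := by
        funext u
        have := congrFun hMw u
        rw [show w = c • w₀ from funext hw₀, Matrix.mulVec_smul] at this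
        exact (mul_left_cancel₀ hc this).symm
      rw [hz, ← app_eq_mulVec hc']
      exact congr($(congrArg (fun ψ => Scheme.Modules.Hom.app ψ (chartW k i)) (cokernel.condition φ)) _)
    haveI := hι
    haveI : Coh.IsQCoh F := hF.1
    obtain ⟨i, s, hs⟩ : ∃ (i : Fin 3) (s : Γ(F, chartW k i)), s ≠ 0 := by
      by_contra hall
      push Not at hall
      refine hF0 ((IsZero.iff_id_eq_zero _).2 (Groth.L18.Ample.eq_zero_of_local _ fun V t x hx => ?_))
      obtain ⟨i, hi⟩ := exists_mem_chartW k x
      obtain ⟨g, hg, hxg⟩ := (isAffineOpen_chartW k i).exists_basicOpen_le (V := V) ⟨x, hx⟩ hi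
      refine ⟨(P2).basicOpen g, hg, hxg, ?_⟩
      obtain ⟨N, m, hm⟩ := Groth.L16.QCohSect.exists_pow_smul_eq_res (isAffineOpen_chartW k i) F g (rs F hg t)
      refine Groth.L18.Ample.eq_zero_of_pow_smul g le_rfl N _ ?_
      show ro _ (g ^ N) • rs F hg t = 0
      rw [← hm, hall i m]
      exact map_zero _
    have hη : genericPoint (P2) ∈ CohB1.support F := by
      intro hsub
      have hne : Nonempty (chartW k i) := by
        by_contra hempty
        rw [not_nonempty_iff] at hempty
        exact hs (Groth.L16.HomSh.ext_cover F (fun x : PEmpty.{u+1} => x.elim) (fun x => x.elim)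
          (fun x hx => (hempty.false ⟨x, hx⟩).elim) fun x => x.elim)
      obtain ⟨⟨x₀, hx₀⟩⟩ := hne
      have hmem : genericPoint (P2) ∈ chartW k i :=
        ((genericPoint_spec (P2)).mem_open_set_iff (chartW k i).2).2 ⟨x₀, trivial, hx₀⟩
      haveI := hsub
      obtain ⟨V, hηV, iV, iV', heq⟩ := F.presheaf.germ_eq (genericPoint (P2)) hmem hmem s 0
        (Subsingleton.elim _ _)
      obtain ⟨g, hg, hxg⟩ := (isAffineOpen_chartW k i).exists_basicOpen_le (V := V) ⟨_, hηV⟩ hmem
      have h0' : rs F ((P2).basicOpen_le g) s = 0 := by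
        rw [← rs_rs F iV.le hg]
        refine (congrArg (rs F hg) (heq.trans (map_zero _))).trans ?_
        exact map_zero _
      obtain ⟨N, hN⟩ := Groth.L16.QCohSect.exists_pow_smul_eq_zero (isAffineOpen_chartW k i) F g s h0'
      have hg0 : g ^ N ≠ 0 := pow_ne_zero _ fun h => by
        rw [h, Scheme.basicOpen_zero] at hxg
        exact hxg
      haveI : Nonempty (chartW k i) := ⟨⟨x₀, hx₀⟩⟩
      have h2 := htf i _ (ι.app (chartW k i) s) hg0 (by
        rw [← Scheme.Modules.Hom.app_smul, hN, map_zero])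
      exact hs (Groth.L17.DeligneHom.app_injective ι _ (h2.trans (map_zero _).symm))
    have huniv : CohB1.support F = Set.univ := by
      refine Set.eq_univ_of_univ_subset ?_
      rw [← genericPoint_closure (α := P2)]
      exact closure_minimal (Set.singleton_subset_iff.2 hη) (Groth.L16.CohSupport.isClosed_support F hF.2)
    rw [huniv, (Homeomorph.Set.univ (P2)).isHomeomorph.topologicalKrullDim_eq]
    exact (plane_facts k).2.2.2

end Plane

end Groth.L24.Degen
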