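import Groth.Agent.L24.Degen.Stratum
import Groth.Agent.L24.Degen.Main
import Groth.Agent.L24.Kleiman.Translate

/-!
# Degeneracy loci of block triangular homomorphisms
-/

set_option autoImplicit false
set_option linter.style.haveILetI false
set_option maxHeartbeats 1000000
set_option backward.isDefEq.respectTransparency.types false
set_option backward.isDefEq.respectTransparency false

universe u

open CategoryTheory CategoryTheory.Limits AlgebraicGeometry TopologicalSpace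

noncomputable section

namespace Groth.L24.Degen

open Groth.L18.Frame (rs rs_self)
open Groth.L19.ProjBdl (IsBasisOn lc app_lc app_rs lc_coord coord)

variable {X : Scheme.{u}} {A₁ A₂ B₁ B₂ : X.Modules} {W : X.Opens} {a₁ a₂ b₁ b₂ : ℕ}

theorem biprod_total_app (V : X.Opens) (t : Γ((A₁ ⊞ A₂ : X.Modules), V)) :
    (biprod.inl : A₁ ⟶ A₁ ⊞ A₂).app V ((biprod.fst : A₁ ⊞ A₂ ⟶ A₁).app V t) +
      (biprod.inr : A₂ ⟶ A₁ ⊞ A₂).app V ((biprod.snd : A₁ ⊞ A₂ ⟶ A₂).app V t) = t :=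
  congr($(congrArg (fun k => Scheme.Modules.Hom.app k V) (biprod.total (X := A₁) (Y := A₂))) t)

theorem app_comp_eq {P Q R : X.Modules} (f : P ⟶ Q) (g : Q ⟶ R) (h : P ⟶ R) (he : f ≫ g = h) (V : X.Opens)
    (t : Γ(P, V)) : g.app V (f.app V t) = h.app V t := by
  subst he
  rfl

/-- The sum of two families of sections. -/
def biBasis (c₁ : Fin a₁ → Γ(A₁, W)) (c₂ : Fin a₂ → Γ(A₂, W)) : Fin (a₁ + a₂) → Γ((A₁ ⊞ A₂ : X.Modules), W) :=
  fun i => Sum.elim (fun x => (biprod.inl : A₁ ⟶ A₁ ⊞ A₂).app W (c₁ x))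
    (fun x => (biprod.inr : A₂ ⟶ A₁ ⊞ A₂).app W (c₂ x)) (finSumFinEquiv.symm i)

theorem lc_biBasis (c₁ : Fin a₁ → Γ(A₁, W)) (c₂ : Fin a₂ → Γ(A₂, W)) {V : X.Opens} (h : V ≤ W)
    (z : Fin (a₁ + a₂) → Γ(X, V)) :
    lc _ (biBasis c₁ c₂) h z = (biprod.inl : A₁ ⟶ A₁ ⊞ A₂).app V (lc A₁ c₁ h fun x => z (finSumFinEquiv (Sum.inl x))) +
      (biprod.inr : A₂ ⟶ A₁ ⊞ A₂).app V (lc A₂ c₂ h fun x => z (finSumFinEquiv (Sum.inr x))) := by
  rw [app_lc, app_lc]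
  simp only [lc]
  rw [← finSumFinEquiv.sum_comp, Fintype.sum_sum_type]
  simp [biBasis]

theorem fst_lc (c₁ : Fin a₁ → Γ(A₁, W)) (c₂ : Fin a₂ → Γ(A₂, W)) {V : X.Opens} (h : V ≤ W)
    (z : Fin (a₁ + a₂) → Γ(X, V)) :
    (biprod.fst : A₁ ⊞ A₂ ⟶ A₁).app V (lc _ (biBasis c₁ c₂) h z) = lc A₁ c₁ h (fun x => z (finSumFinEquiv (Sum.inl x))) ∧
    (biprod.snd : A₁ ⊞ A₂ ⟶ A₂).app V (lc _ (biBasis c₁ c₂) h z) = lc A₂ c₂ h fun x => z (finSumFinEquiv (Sum.inr x)) := by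
  constructor <;> rw [lc_biBasis, map_add]
  · rw [app_comp_eq _ _ _ biprod.inl_fst, app_comp_eq _ _ _ biprod.inr_fst]
    exact add_zero _
  · rw [app_comp_eq _ _ _ biprod.inl_snd, app_comp_eq _ _ _ biprod.inr_snd]
    exact zero_add _

theorem isBasisOn_biBasis {c₁ : Fin a₁ → Γ(A₁, W)} {c₂ : Fin a₂ → Γ(A₂, W)} (h₁ : IsBasisOn A₁ W c₁)
    (h₂ : IsBasisOn A₂ W c₂) : IsBasisOn (A₁ ⊞ A₂) W (biBasis c₁ c₂) := by
  intro V h
  refine ⟨fun z z' e => funext fun i => ?_, fun t => ?_⟩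
  · obtain ⟨(x | x), rfl⟩ := finSumFinEquiv.surjective i
    · have := congrArg ((biprod.fst : A₁ ⊞ A₂ ⟶ A₁).app V) e
      rw [(fst_lc c₁ c₂ h z).1, (fst_lc c₁ c₂ h z').1] at this
      exact congrFun ((h₁ V h).1 this) x
    · have := congrArg ((biprod.snd : A₁ ⊞ A₂ ⟶ A₂).app V) e
      rw [(fst_lc c₁ c₂ h z).2, (fst_lc c₁ c₂ h z').2] at this
      exact congrFun ((h₂ V h).1 this) x
  · obtain ⟨z₁, hz₁⟩ := (h₁ V h).2 ((biprod.fst : A₁ ⊞ A₂ ⟶ A₁).app V t)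
    obtain ⟨z₂, hz₂⟩ := (h₂ V h).2 ((biprod.snd : A₁ ⊞ A₂ ⟶ A₂).app V t)
    refine ⟨fun i => Sum.elim z₁ z₂ (finSumFinEquiv.symm i), ?_⟩
    rw [lc_biBasis]
    simp only [Equiv.symm_apply_apply, Sum.elim_inl, Sum.elim_inr]
    rw [hz₁, hz₂]
    exact biprod_total_app V t

theorem coord_biBasis {c₁ : Fin b₁ → Γ(B₁, W)} {c₂ : Fin b₂ → Γ(B₂, W)} (h₁ : IsBasisOn B₁ W c₁)
    (h₂ : IsBasisOn B₂ W c₂) (t : Γ((B₁ ⊞ B₂ : X.Modules), W)) :
    (∀ x, coordEquiv (isBasisOn_biBasis h₁ h₂) t (finSumFinEquiv (Sum.inl x)) =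
      coordEquiv h₁ ((biprod.fst : B₁ ⊞ B₂ ⟶ B₁).app W t) x) ∧
    (∀ x, coordEquiv (isBasisOn_biBasis h₁ h₂) t (finSumFinEquiv (Sum.inr x)) =
      coordEquiv h₂ ((biprod.snd : B₁ ⊞ B₂ ⟶ B₂).app W t) x) := by
  obtain ⟨z, rfl⟩ := (coordEquiv (isBasisOn_biBasis h₁ h₂)).symm.surjective t
  have hl : ∀ {M : X.Modules} {N : ℕ} {d : Fin N → Γ(M, W)} (hd : IsBasisOn M W d) (y : Fin N → Γ(X, W)),
      (coordEquiv hd).symm y = lc M d le_rfl y := fun hd y => by simp [coordEquiv_symm_apply, lc, rs_self]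
  rw [LinearEquiv.apply_symm_apply, hl, (fst_lc c₁ c₂ le_rfl z).1, (fst_lc c₁ c₂ le_rfl z).2, ← hl h₁, ← hl h₂,
    LinearEquiv.apply_symm_apply, LinearEquiv.apply_symm_apply]
  exact ⟨fun _ => rfl, fun _ => rfl⟩

section Mat

variable {d₁ : Fin a₁ → Γ(A₁, W)} {d₂ : Fin a₂ → Γ(A₂, W)} (hd₁ : IsBasisOn A₁ W d₁) (hd₂ : IsBasisOn A₂ W d₂)
variable {c₁ : Fin b₁ → Γ(B₁, W)} {c₂ : Fin b₂ → Γ(B₂, W)} (h₁ : IsBasisOn B₁ W c₁) (h₂ : IsBasisOn B₂ W c₂)

theorem homMat_blocks (φ : A₁ ⊞ A₂ ⟶ B₁ ⊞ B₂) :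
    (homMat (biBasis d₁ d₂) (isBasisOn_biBasis h₁ h₂) φ).submatrix finSumFinEquiv finSumFinEquiv =
      Matrix.fromBlocks (homMat d₁ h₁ (biprod.inl ≫ φ ≫ biprod.fst)) (homMat d₂ h₁ (biprod.inr ≫ φ ≫ biprod.fst))
        (homMat d₁ h₂ (biprod.inl ≫ φ ≫ biprod.snd)) (homMat d₂ h₂ (biprod.inr ≫ φ ≫ biprod.snd)) := by
  ext x y
  show coordEquiv (isBasisOn_biBasis h₁ h₂) (φ.app W (biBasis d₁ d₂ (finSumFinEquiv y))) (finSumFinEquiv x) = _
  simp only [biBasis, Equiv.symm_apply_apply]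
  rcases x with x | x
  · rw [(coord_biBasis h₁ h₂ _).1 x]
    rcases y with y | y <;> rfl
  · rw [(coord_biBasis h₁ h₂ _).2 x]
    rcases y with y | y <;> rfl

theorem homMat_zero {e f : ℕ} {E F : X.Modules} (d : Fin e → Γ(E, W)) {c : Fin f → Γ(F, W)} (hc : IsBasisOn F W c) :
    homMat d hc (0 : E ⟶ F) = 0 := by
  ext x y
  show coordEquiv hc 0 x = 0
  rw [map_zero]
  rfl

/-- In a block triangular matrix with too many columns in the small block all maximal minors vanish. -/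
theorem minorIdeal_eq_bot {R : Type u} [CommRing R] (M : Matrix (Fin (b₁ + b₂)) (Fin (a₁ + a₂)) R)
    (h0 : ∀ x y, M (finSumFinEquiv (Sum.inl x)) (finSumFinEquiv (Sum.inr y)) = 0) (hlt : b₂ < a₂) :
    CAlgX.minorIdeal M (a₁ + a₂) = ⊥ := by
  classical
  refine le_bot_iff.1 (Ideal.span_le.2 ?_)
  rintro _ ⟨⟨g, h⟩, rfl⟩
  show (M.submatrix g h).det ∈ (⊥ : Ideal R)
  rw [Ideal.mem_bot]
  by_cases hg : Function.Injective g
  swap
  · obtain ⟨x, y, hxy, hne⟩ := Function.not_injective_iff.1 hg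
    exact Matrix.det_zero_of_row_eq hne (funext fun l => by simp [hxy])
  by_cases hh : Function.Injective h
  swap
  · obtain ⟨x, y, hxy, hne⟩ := Function.not_injective_iff.1 hh
    exact Matrix.det_zero_of_column_eq hne (fun l => by simp [hxy])
  rw [Matrix.det_apply]
  refine Finset.sum_eq_zero fun π _ => ?_
  suffices ∃ i, M.submatrix g h (π i) i = 0 by
    obtain ⟨i, hi⟩ := this
    rw [Finset.prod_eq_zero (f := fun i => M.submatrix g h (π i) i) (Finset.mem_univ i) hi, smul_zero]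
  by_contra hne
  push Not at hne
  have hbij := (Finite.injective_iff_bijective.1 hh)
  choose col hcol using fun y : Fin a₂ => hbij.2 (finSumFinEquiv (Sum.inr y))
  have hrow : ∀ y, ∃ x, g (π (col y)) = finSumFinEquiv (Sum.inr x : Fin b₁ ⊕ Fin b₂) := fun y => by
    obtain ⟨(x | x), hx⟩ := finSumFinEquiv.surjective (g (π (col y)))
    · exact absurd (by rw [Matrix.submatrix_apply, hcol, ← hx, h0]) (hne (col y))
    · exact ⟨x, hx.symm⟩
  choose row hr using hrow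
  have hinj : Function.Injective row := fun y y' e => by
    have h1 : col y = col y' := π.injective (hg (by rw [hr, hr, e]))
    exact Sum.inr_injective (finSumFinEquiv.injective (by rw [← hcol, ← hcol, h1]))
  have := Fintype.card_le_of_injective row hinj
  simp at this
  omega

end Mat

variable {k : Type u} [Field k] [X.Over (Spec (CommRingCat.of k))]

theorem dim_blockTriangular [IsAlgClosed k] [CharZero k] [IsIntegral X] [Smooth (X ↘ Spec (CommRingCat.of k))]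
    [IsProper (X ↘ Spec (CommRingCat.of k))]
    (n : ℕ) (hdim : topologicalKrullDim X = n) (A₁ A₂ B₁ B₂ : X.Modules) (a₁ a₂ b₁ b₂ : ℕ)
    (hA₁ : FlatMod.IsFinLocFreeOfRank a₁ A₁) (hA₂ : FlatMod.IsFinLocFreeOfRank a₂ A₂)
    (hB₁ : FlatMod.IsFinLocFreeOfRank b₁ B₁) (hB₂ : FlatMod.IsFinLocFreeOfRank b₂ B₂)
    (hab : a₁ + a₂ ≤ b₁ + b₂) [DCoh.HasSheafHom A₁] [DCoh.HasSheafHom A₂]
    (h₁₁ : Curv2.IsGloballyGenerated ((DCoh.sheafHom A₁).obj B₁))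
    (h₁₂ : Curv2.IsGloballyGenerated ((DCoh.sheafHom A₁).obj B₂))
    (h₂₂ : Curv2.IsGloballyGenerated ((DCoh.sheafHom A₂).obj B₂))
    (h₂₁ : ∀ ψ : A₂ ⟶ B₁, ψ = 0) (hab₂ : a₂ ≤ b₂) :
    ∃ (m : ℕ) (c : ((A₁ ⊞ A₂) ⟶ (B₁ ⊞ B₂)) ≃ₗ[k] (Fin m → k)) (p : MvPolynomial (Fin m) k), p ≠ 0 ∧
      ∀ φ : (A₁ ⊞ A₂) ⟶ (B₁ ⊞ B₂), MvPolynomial.eval (c φ) p ≠ 0 →
        letI Z : Set X := ((Fitt.sheafIdeal (cokernel φ) (b₁ + b₂ - (a₁ + a₂))).support : TopologicalSpace.Closeds X)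
        Z = ∅ ∨ (min (b₂ - a₂) (b₁ + b₂ - (a₁ + a₂)) + 1 ≤ n ∧
          ∀ T ∈ irreducibleComponents Z,
            topologicalKrullDim T ≤ ((n - (min (b₂ - a₂) (b₁ + b₂ - (a₁ + a₂)) + 1) : ℕ) : WithBot ℕ∞)) := by
  classical
  set s := X ↘ Spec (CommRingCat.of k)
  have lf : ∀ {e : ℕ} {M : X.Modules}, FlatMod.IsFinLocFreeOfRank e M → FlatMod.IsFinLocFree M :=
    fun {e} {M} h x => let ⟨U, h'⟩ := h x; ⟨U, e, h'⟩
  have hch : ∀ x : X, ∃ (U : X.Opens) (d₁ : Fin a₁ → Γ(A₁, U)) (d₂ : Fin a₂ → Γ(A₂, U)) (c₁ : Fin b₁ → Γ(B₁, U))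
      (c₂ : Fin b₂ → Γ(B₂, U)), IsAffineOpen U ∧ x ∈ U ∧
        IsBasisOn A₁ U d₁ ∧ IsBasisOn A₂ U d₂ ∧ IsBasisOn B₁ U c₁ ∧ IsBasisOn B₂ U c₂ := fun x => by
    obtain ⟨V₁, d₁, -, hx₁, -, hd₁⟩ := exists_basisOn_rank hA₁ x ⊤ trivial
    obtain ⟨V₂, d₂, -, hx₂, hV₂, hd₂⟩ := exists_basisOn_rank hA₂ x V₁ hx₁
    obtain ⟨V₃, c₁, -, hx₃, hV₃, hc₁⟩ := exists_basisOn_rank hB₁ x V₂ hx₂
    obtain ⟨U, c₂, hU, hxU, hU₃, hc₂⟩ := exists_basisOn_rank hB₂ x V₃ hx₃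
    exact ⟨U, _, _, _, c₂, hU, hxU, hd₁.mono (hU₃.trans (hV₃.trans hV₂)), hd₂.mono (hU₃.trans hV₃),
      hc₁.mono hU₃, hc₂⟩
  choose U d₁ d₂ c₁ c₂ hU hxU hd₁ hd₂ hc₁ hc₂ using hch
  have hA : FlatMod.IsFinLocFree (A₁ ⊞ A₂) :=
    Groth.L16.HomSh.isFinLocFree_of_bases fun x => ⟨U x, _, _, hxU x, isBasisOn_biBasis (hd₁ x) (hd₂ x)⟩
  have hB : FlatMod.IsFinLocFree (B₁ ⊞ B₂) :=
    Groth.L16.HomSh.isFinLocFree_of_bases fun x => ⟨U x, _, _, hxU x, isBasisOn_biBasis (hc₁ x) (hc₂ x)⟩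
  haveI : IsLocallyNoetherian X := LocallyOfFiniteType.isLocallyNoetherian s
  have hAc := Groth.L16.NegPow.isCoh_of_isFinLocFree hA
  have hBc := Groth.L16.NegPow.isCoh_of_isFinLocFree hB
  haveI : Coh.IsQCoh (A₁ ⊞ A₂ : X.Modules) := hAc.1
  haveI : Coh.IsQCoh (B₁ ⊞ B₂ : X.Modules) := hBc.1
  haveI := Groth.L14.Quot.finite_hom (k := k) hAc hBc
  haveI := Groth.L14.Quot.finite_hom (k := k) (Groth.L16.NegPow.isCoh_of_isFinLocFree (lf hA₁))
    (Groth.L16.NegPow.isCoh_of_isFinLocFree (lf hB₁))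
  haveI := Groth.L14.Quot.finite_hom (k := k) (Groth.L16.NegPow.isCoh_of_isFinLocFree (lf hA₁))
    (Groth.L16.NegPow.isCoh_of_isFinLocFree (lf hB₂))
  haveI := Groth.L14.Quot.finite_hom (k := k) (Groth.L16.NegPow.isCoh_of_isFinLocFree (lf hA₂))
    (Groth.L16.NegPow.isCoh_of_isFinLocFree (lf hB₂))
  let B := Module.finBasis k (A₁ ⊞ A₂ ⟶ B₁ ⊞ B₂)
  let mat := fun (x : X) (φ : A₁ ⊞ A₂ ⟶ B₁ ⊞ B₂) =>
    homMat (biBasis (d₁ x) (d₂ x)) (isBasisOn_biBasis (hc₁ x) (hc₂ x)) φ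
  let mat₂ := fun (x : X) (φ : A₁ ⊞ A₂ ⟶ B₁ ⊞ B₂) => homMat (d₂ x) (hc₂ x) (biprod.inr ≫ φ ≫ biprod.snd)
  -- all matrices of the small block occur
  have span₂ : ∀ x : X, Submodule.span Γ(X, U x) (Set.range fun l => mat₂ x (B l)) = ⊤ := fun x => by
    refine eq_top_iff.2 ?_
    rw [← span_homMat ⟨lf hA₂, lf hB₂⟩ h₂₂ (hU x) (hd₂ x) (hc₂ x) (Module.finBasis k (A₂ ⟶ B₂)), Submodule.span_le]
    rintro _ ⟨l, rfl⟩
    have e : Module.finBasis k (A₂ ⟶ B₂) l = biprod.inr ≫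
        (biprod.snd ≫ Module.finBasis k (A₂ ⟶ B₂) l ≫ biprod.inr : A₁ ⊞ A₂ ⟶ B₁ ⊞ B₂) ≫ biprod.snd := by simp
    show homMat (d₂ x) (hc₂ x) (Module.finBasis k (A₂ ⟶ B₂) l) ∈ _
    rw [e, ← B.sum_repr (biprod.snd ≫ Module.finBasis k (A₂ ⟶ B₂) l ≫ biprod.inr)]
    simp only [Preadditive.sum_comp, Preadditive.comp_sum, Linear.smul_comp, Linear.comp_smul]
    rw [homMat_sum]
    exact Submodule.sum_mem _ fun i _ => Submodule.smul_mem _ _ (Submodule.subset_span ⟨i, rfl⟩)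
  -- the free entries of the big matrix
  have span₁ : ∀ (x : X) (y : Fin (b₁ + b₂)) (j : Fin a₁),
      Matrix.single y (finSumFinEquiv (Sum.inl j)) (1 : Γ(X, U x)) ∈
        Submodule.span Γ(X, U x) (Set.range fun l => mat x (B l)) := fun x y j => by
    have hall : ∀ φ, mat x φ ∈ Submodule.span Γ(X, U x) (Set.range fun l => mat x (B l)) := fun φ => by
      show homMat _ _ φ ∈ _
      rw [← B.sum_repr φ, homMat_sum]
      exact Submodule.sum_mem _ fun i _ => Submodule.smul_mem _ _ (Submodule.subset_span ⟨i, rfl⟩)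
    obtain ⟨(y | y), rfl⟩ := finSumFinEquiv.surjective y
    · let Λ : Matrix (Fin b₁) (Fin a₁) Γ(X, U x) →ₗ[Γ(X, U x)] Matrix (Fin (b₁ + b₂)) (Fin (a₁ + a₂)) Γ(X, U x) :=
        { toFun := fun P => (Matrix.fromBlocks P (0 : Matrix (Fin b₁) (Fin a₂) _) (0 : Matrix (Fin b₂) (Fin a₁) _) 0).submatrix
            finSumFinEquiv.symm finSumFinEquiv.symm
          map_add' := fun P Q => by ext u v; rcases h : finSumFinEquiv.symm u with u' | u' <;>
            rcases h' : finSumFinEquiv.symm v with v' | v' <;> simp [h, h']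
          map_smul' := fun c P => by ext u v; rcases h : finSumFinEquiv.symm u with u' | u' <;>
            rcases h' : finSumFinEquiv.symm v with v' | v' <;> simp [h, h'] }
      have hΛ : ∀ ψ : A₁ ⟶ B₁, Λ (homMat (d₁ x) (hc₁ x) ψ) = mat x (biprod.fst ≫ ψ ≫ biprod.inl) := fun ψ => by
        have h1 := homMat_blocks (d₁ := d₁ x) (d₂ := d₂ x) (hc₁ x) (hc₂ x) (biprod.fst ≫ ψ ≫ biprod.inl)
        simp only [Category.assoc, biprod.inl_fst_assoc, biprod.inr_fst_assoc, biprod.inl_fst, biprod.inl_snd,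
          biprod.inr_fst, biprod.inr_snd, Category.comp_id, zero_comp, comp_zero, homMat_zero] at h1
        show Matrix.submatrix _ _ _ = _
        rw [← h1, Matrix.submatrix_submatrix]
        simp [mat]
      have h2 : Matrix.single (finSumFinEquiv (Sum.inl y)) (finSumFinEquiv (Sum.inl j)) (1 : Γ(X, U x)) =
          Λ (Matrix.single y j 1) := by
        ext u v
        obtain ⟨(u | u), rfl⟩ := finSumFinEquiv.surjective u <;>
          obtain ⟨(v | v), rfl⟩ := finSumFinEquiv.surjective v <;>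
          simp [Λ, Matrix.single_apply, finSumFinEquiv.injective.eq_iff, -finSumFinEquiv_apply_left, -finSumFinEquiv_apply_right]
      rw [h2]
      refine (Submodule.map_le_iff_le_comap.2 ?_) (Submodule.mem_map_of_mem (f := Λ) (Submodule.mem_top (x := _)))
      rw [← span_homMat ⟨lf hA₁, lf hB₁⟩ h₁₁ (hU x) (hd₁ x) (hc₁ x) (Module.finBasis k (A₁ ⟶ B₁)), Submodule.span_le]
      rintro _ ⟨l, rfl⟩
      rw [SetLike.mem_coe, Submodule.mem_comap, hΛ]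
      exact hall _
    · let Λ : Matrix (Fin b₂) (Fin a₁) Γ(X, U x) →ₗ[Γ(X, U x)] Matrix (Fin (b₁ + b₂)) (Fin (a₁ + a₂)) Γ(X, U x) :=
        { toFun := fun P => (Matrix.fromBlocks (0 : Matrix (Fin b₁) (Fin a₁) _) (0 : Matrix (Fin b₁) (Fin a₂) _) P 0).submatrix
            finSumFinEquiv.symm finSumFinEquiv.symm
          map_add' := fun P Q => by ext u v; rcases h : finSumFinEquiv.symm u with u' | u' <;>
            rcases h' : finSumFinEquiv.symm v with v' | v' <;> simp [h, h']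
          map_smul' := fun c P => by ext u v; rcases h : finSumFinEquiv.symm u with u' | u' <;>
            rcases h' : finSumFinEquiv.symm v with v' | v' <;> simp [h, h'] }
      have hΛ : ∀ ψ : A₁ ⟶ B₂, Λ (homMat (d₁ x) (hc₂ x) ψ) = mat x (biprod.fst ≫ ψ ≫ biprod.inr) := fun ψ => by
        have h1 := homMat_blocks (d₁ := d₁ x) (d₂ := d₂ x) (hc₁ x) (hc₂ x) (biprod.fst ≫ ψ ≫ biprod.inr)
        simp only [Category.assoc, biprod.inl_fst_assoc, biprod.inr_fst_assoc, biprod.inl_fst, biprod.inl_snd,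
          biprod.inr_fst, biprod.inr_snd, Category.comp_id, zero_comp, comp_zero, homMat_zero] at h1
        show Matrix.submatrix _ _ _ = _
        rw [← h1, Matrix.submatrix_submatrix]
        simp [mat]
      have h2 : Matrix.single (finSumFinEquiv (Sum.inr y)) (finSumFinEquiv (Sum.inl j)) (1 : Γ(X, U x)) =
          Λ (Matrix.single y j 1) := by
        ext u v
        obtain ⟨(u | u), rfl⟩ := finSumFinEquiv.surjective u <;>
          obtain ⟨(v | v), rfl⟩ := finSumFinEquiv.surjective v <;>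
          simp [Λ, Matrix.single_apply, finSumFinEquiv.injective.eq_iff, -finSumFinEquiv_apply_left, -finSumFinEquiv_apply_right]
      rw [h2]
      refine (Submodule.map_le_iff_le_comap.2 ?_) (Submodule.mem_map_of_mem (f := Λ) (Submodule.mem_top (x := _)))
      rw [← span_homMat ⟨lf hA₁, lf hB₂⟩ h₁₂ (hU x) (hd₁ x) (hc₂ x) (Module.finBasis k (A₁ ⟶ B₂)), Submodule.span_le]
      rintro _ ⟨l, rfl⟩
      rw [SetLike.mem_coe, Submodule.mem_comap, hΛ]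
      exact hall _
  haveI : CompactSpace X := QuasiCompact.compactSpace_of_compactSpace s
  obtain ⟨S, hS⟩ := isCompact_univ.elim_finite_subcover (fun x : X => (U x : Set X)) (fun x => (U x).2)
    (fun x _ => Set.mem_iUnion.2 ⟨x, hxU x⟩)
  -- strata in the small block
  let I₂ := S × (Σ r : Fin (a₂ + 1), (Fin r ⊕ Fin (b₂ - r) ≃ Fin b₂) × (Fin r ⊕ Fin (a₂ - r) ≃ Fin a₂))
  choose g₂ hg₂0 hg₂ using fun i : I₂ =>
    exists_poly_stratum s n hdim (hU i.1.1) (fun l => (mat₂ i.1.1 (B l)).submatrix i.2.2.1 i.2.2.2) (by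
      intro u v
      let Λ := (Matrix.reindexLinearEquiv Γ(X, U i.1.1) Γ(X, U i.1.1) i.2.2.1.symm i.2.2.2.symm)
      have : (Set.range fun l => (mat₂ i.1.1 (B l)).submatrix i.2.2.1 i.2.2.2) =
          Λ.toLinearMap '' Set.range (fun l => mat₂ i.1.1 (B l)) := by
        rw [← Set.range_comp]; rfl
      rw [this, Submodule.span_image, span₂, Submodule.map_top, LinearEquiv.range]
      trivial)
  -- strata with all the columns of the small block in the corner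
  let I₁ := S × (Σ r : Fin (a₁ + a₂ + 1), {e : (Fin r ⊕ Fin (b₁ + b₂ - r) ≃ Fin (b₁ + b₂)) ×
      (Fin r ⊕ Fin (a₁ + a₂ - r) ≃ Fin (a₁ + a₂)) //
      ∀ v, ∃ j : Fin a₁, e.2 (Sum.inr v) = finSumFinEquiv (Sum.inl j)})
  choose g₁ hg₁0 hg₁ using fun i : I₁ =>
    exists_poly_stratum s n hdim (hU i.1.1) (fun l => (mat i.1.1 (B l)).submatrix i.2.2.1.1 i.2.2.1.2) (by
      intro u v
      obtain ⟨j, hj⟩ := i.2.2.2 v
      let Λ := (Matrix.reindexLinearEquiv Γ(X, U i.1.1) Γ(X, U i.1.1) i.2.2.1.1.symm i.2.2.1.2.symm)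
      have : (Set.range fun l => (mat i.1.1 (B l)).submatrix i.2.2.1.1 i.2.2.1.2) =
          Λ.toLinearMap '' Set.range (fun l => mat i.1.1 (B l)) := by
        rw [← Set.range_comp]; rfl
      rw [this, Submodule.span_image]
      refine ⟨_, span₁ i.1.1 (i.2.2.1.1 (Sum.inr u)) j, ?_⟩
      rw [← hj]
      show Matrix.submatrix _ _ _ = _
      ext p q
      simp [Matrix.single_apply])
  refine ⟨_, B.equivFun, (∏ i, g₂ i) * ∏ i, g₁ i,
    mul_ne_zero (Finset.prod_ne_zero_iff.2 fun i _ => hg₂0 i) (Finset.prod_ne_zero_iff.2 fun i _ => hg₁0 i),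
    fun φ hφ => ?_⟩
  rw [map_mul, mul_ne_zero_iff, map_prod, map_prod, Finset.prod_ne_zero_iff, Finset.prod_ne_zero_iff] at hφ
  haveI := Groth.L16.Devissage.isQCoh_cokernel φ
  have hft : CohB1.IsFT (cokernel φ) := (Groth.L16.CohKernel.isCoh_kernel_cokernel hAc hBc φ).2.2
  let Z : Set X := ((Fitt.sheafIdeal (cokernel φ) (b₁ + b₂ - (a₁ + a₂))).support : TopologicalSpace.Closeds X)
  show Z = ∅ ∨ (min (b₂ - a₂) (b₁ + b₂ - (a₁ + a₂)) + 1 ≤ n ∧ ∀ T ∈ irreducibleComponents Z, _)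
  set c := min (b₂ - a₂) (b₁ + b₂ - (a₁ + a₂)) + 1 with hcdef
  have key : ∀ y ∈ Z, ∃ R : Set X, IsLocallyClosed R ∧ y ∈ R ∧ c ≤ n ∧
      topologicalKrullDim R ≤ ((n - c : ℕ) : WithBot ℕ∞) := by
    intro y hyZ
    obtain ⟨x, hxS, hyU⟩ := Set.mem_iUnion₂.1 (hS (Set.mem_univ y))
    let U' : X.affineOpens := ⟨U x, hU x⟩
    set P := ((hU x).primeIdealOf ⟨y, hyU⟩).asIdeal
    have hminors : CAlgX.minorIdeal (mat x φ) (a₁ + a₂) ≤ P := by
      by_contra hc'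
      refine ((Groth.L15.FittSheaf.notMem_support_iff _ hft (b₁ + b₂ - (a₁ + a₂)) (U := U') hyU).2 ?_) hyZ
      rw [fitting_coker (hU x) (isBasisOn_biBasis (hd₁ x) (hd₂ x)) (isBasisOn_biBasis (hc₁ x) (hc₂ x)),
        show b₁ + b₂ - (b₁ + b₂ - (a₁ + a₂)) = a₁ + a₂ by omega]
      exact hc'
    have finish : ∀ (R : Set X) (pq : ℕ), c ≤ pq → IsLocallyClosed R → y ∈ R → (R.Nonempty → pq ≤ n) →
        topologicalKrullDim R ≤ ((n - pq : ℕ) : WithBot ℕ∞) → ∃ R : Set X, IsLocallyClosed R ∧ y ∈ R ∧ c ≤ n ∧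
          topologicalKrullDim R ≤ ((n - c : ℕ) : WithBot ℕ∞) := fun R pq hpq h1 h2 h3 h4 =>
      ⟨R, h1, h2, hpq.trans (h3 ⟨y, h2⟩), h4.trans (by exact_mod_cast (show n - pq ≤ n - c by omega))⟩
    have hprime : P.IsPrime := ((hU x).primeIdealOf ⟨y, hyU⟩).isPrime
    by_cases hfull : CAlgX.minorIdeal (mat₂ x φ) a₂ ≤ P
    · obtain ⟨r, hrb, hra, σ, τ, hδ, hsch, -⟩ := exists_max_corner (mat₂ x φ) P ∅
        ⟨0, finZeroElim, finZeroElim, by rw [Matrix.det_fin_zero]; exact fun h1 => hprime.ne_top ((Ideal.eq_top_iff_one _).2 h1),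
          by simp⟩
      have hlt : r < a₂ := by
        rcases lt_or_eq_of_le hra with h | h
        · exact h
        · subst h
          exact absurd (hfull (Ideal.subset_span ⟨(fun u => σ (Sum.inl u), fun u => τ (Sum.inl u)), rfl⟩)) hδ
      obtain ⟨R, hR, hmem, hdimR, hne⟩ := hg₂ (⟨x, hxS⟩, ⟨⟨r, by omega⟩, σ, τ⟩) (B.equivFun φ)
        (hφ.1 _ (Finset.mem_univ _)) ((mat₂ x φ).submatrix σ τ) (by
          conv_lhs => rw [show mat₂ x φ = ∑ l, sec s (U x) (B.equivFun φ l) • mat₂ x (B l) by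
            show homMat (d₂ x) (hc₂ x) (biprod.inr ≫ φ ≫ biprod.snd) = _
            conv_lhs => rw [← B.sum_equivFun φ]
            simp only [Preadditive.sum_comp, Preadditive.comp_sum, Linear.smul_comp, Linear.comp_smul]
            rw [homMat_sum]]
          ext u v
          simp [Matrix.sum_apply])
      refine finish R ((b₂ - r) * (a₂ - r)) ?_ hR (hmem y hyU hδ hsch) hne hdimR
      have h1 : b₂ - r ≤ (b₂ - r) * (a₂ - r) := Nat.le_mul_of_pos_right _ (by omega)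
      omega
    · obtain ⟨σ₀, τ₀, hδ₀⟩ := exists_corner (r := a₂) le_rfl hab₂ (mat₂ x φ) P hfull
      obtain ⟨r, hrb, hra, σ, τ, hδ, hsch, hτ⟩ := exists_max_corner (mat x φ) P
        (Finset.univ.image fun v : Fin a₂ => (finSumFinEquiv (Sum.inr v) : Fin (a₁ + a₂)))
        ⟨a₂, fun u => finSumFinEquiv (Sum.inr (σ₀ (Sum.inl u))), fun u => finSumFinEquiv (Sum.inr (τ₀ (Sum.inl u))),
          by
            have h1 := homMat_blocks (d₁ := d₁ x) (d₂ := d₂ x) (hc₁ x) (hc₂ x) φ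
            convert hδ₀ using 3
            ext u v
            exact congrFun (congrFun h1 (Sum.inr (σ₀ (Sum.inl u)))) (Sum.inr (τ₀ (Sum.inl v))),
          by
            intro v hv
            obtain ⟨w, -, rfl⟩ := Finset.mem_image.1 hv
            have hsurj : Function.Surjective (fun u : Fin a₂ => τ₀ (Sum.inl u)) :=
              Finite.surjective_of_injective fun _ _ e => Sum.inl_injective (τ₀.injective e)
            obtain ⟨u, hu⟩ := hsurj w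
            exact ⟨u, by simp only [hu]⟩⟩
      have hlt : r < a₁ + a₂ := by
        rcases lt_or_eq_of_le hra with h | h
        · exact h
        · subst h
          exact absurd (hminors (Ideal.subset_span ⟨(fun u => σ (Sum.inl u), fun u => τ (Sum.inl u)), rfl⟩)) hδ
      have hcols : ∀ v, ∃ j : Fin a₁, τ (Sum.inr v) = finSumFinEquiv (Sum.inl j) := fun v => by
        obtain ⟨(j | j), hj⟩ := finSumFinEquiv.surjective (τ (Sum.inr v))
        · exact ⟨j, hj.symm⟩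
        · exact absurd (Finset.mem_image.2 ⟨j, Finset.mem_univ _, hj⟩) (hτ v)
      obtain ⟨R, hR, hmem, hdimR, hne⟩ := hg₁ (⟨x, hxS⟩, ⟨⟨r, by omega⟩, ⟨(σ, τ), hcols⟩⟩) (B.equivFun φ)
        (hφ.2 _ (Finset.mem_univ _)) ((mat x φ).submatrix σ τ) (by
          conv_lhs => rw [show mat x φ = ∑ l, sec s (U x) (B.equivFun φ l) • mat x (B l) by
            show homMat _ _ φ = _
            conv_lhs => rw [← B.sum_equivFun φ]
            rw [homMat_sum]]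
          ext u v
          simp [Matrix.sum_apply])
      refine finish R ((b₁ + b₂ - r) * (a₁ + a₂ - r)) ?_ hR (hmem y hyU hδ hsch) hne hdimR
      have h1 : b₁ + b₂ - r ≤ (b₁ + b₂ - r) * (a₁ + a₂ - r) := Nat.le_mul_of_pos_right _ (by omega)
      omega
  rcases Z.eq_empty_or_nonempty with hZ | ⟨y, hy⟩
  · exact Or.inl hZ
  · obtain ⟨-, -, -, hcn, -⟩ := key y hy
    refine Or.inr ⟨hcn, fun T hT => ?_⟩
    have hZc : IsClosed Z := (Fitt.sheafIdeal (cokernel φ) (b₁ + b₂ - (a₁ + a₂))).support.isClosed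
    have hTc : IsClosed (Subtype.val '' T : Set X) :=
      hZc.isClosedEmbedding_subtypeVal.isClosedMap _ (isClosed_of_mem_irreducibleComponents T hT)
    have hTi : IsIrreducible (Subtype.val '' T : Set X) := hT.1.image _ continuous_subtype_val.continuousOn
    obtain ⟨η, hη⟩ := QuasiSober.sober hTi hTc
    obtain ⟨R, hR, hηR, -, hdimR⟩ := key η (by
      obtain ⟨t, -, ht⟩ := hη.mem
      exact ht ▸ t.2)
    haveI : LocallyOfFiniteType (Over.mk s).hom := inferInstanceAs (LocallyOfFiniteType s)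
    have h1 := Groth.L24.Kleiman.dim_le_of_mem_locallyClosed (X := Over.mk s) η R hR hηR
    rw [hη.def] at h1
    refine le_trans (le_of_eq ?_) (h1.trans hdimR)
    exact (Groth.L22.SchemeDim.topologicalKrullDim_eq_of_isEmbedding
      (f := fun t : T => (t.1.1 : X)) (Topology.IsEmbedding.subtypeVal.comp Topology.IsEmbedding.subtypeVal)
      (by ext z; simp)).symm

theorem blockTriangular_univ [IsAlgClosed k] [IsIntegral X] [Smooth (X ↘ Spec (CommRingCat.of k))]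
    (A₁ A₂ B₁ B₂ : X.Modules) (a₁ a₂ b₁ b₂ : ℕ)
    (hA₁ : FlatMod.IsFinLocFreeOfRank a₁ A₁) (hA₂ : FlatMod.IsFinLocFreeOfRank a₂ A₂)
    (hB₁ : FlatMod.IsFinLocFreeOfRank b₁ B₁) (hB₂ : FlatMod.IsFinLocFreeOfRank b₂ B₂)
    (hab : a₁ + a₂ ≤ b₁ + b₂) (h₂₁ : ∀ ψ : A₂ ⟶ B₁, ψ = 0) (hlt : b₂ < a₂)
    (φ : (A₁ ⊞ A₂) ⟶ (B₁ ⊞ B₂)) :
    (((Fitt.sheafIdeal (cokernel φ) (b₁ + b₂ - (a₁ + a₂))).support : TopologicalSpace.Closeds X) : Set X) = Set.univ := by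
  have hch : ∀ x : X, ∃ (U : X.Opens) (d₁ : Fin a₁ → Γ(A₁, U)) (d₂ : Fin a₂ → Γ(A₂, U)) (c₁ : Fin b₁ → Γ(B₁, U))
      (c₂ : Fin b₂ → Γ(B₂, U)), IsAffineOpen U ∧ x ∈ U ∧
        IsBasisOn A₁ U d₁ ∧ IsBasisOn A₂ U d₂ ∧ IsBasisOn B₁ U c₁ ∧ IsBasisOn B₂ U c₂ := fun x => by
    obtain ⟨V₁, d₁, -, hx₁, -, hd₁⟩ := exists_basisOn_rank hA₁ x ⊤ trivial
    obtain ⟨V₂, d₂, -, hx₂, hV₂, hd₂⟩ := exists_basisOn_rank hA₂ x V₁ hx₁
    obtain ⟨V₃, c₁, -, hx₃, hV₃, hc₁⟩ := exists_basisOn_rank hB₁ x V₂ hx₂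
    obtain ⟨U, c₂, hU, hxU, hU₃, hc₂⟩ := exists_basisOn_rank hB₂ x V₃ hx₃
    exact ⟨U, _, _, _, c₂, hU, hxU, hd₁.mono (hU₃.trans (hV₃.trans hV₂)), hd₂.mono (hU₃.trans hV₃),
      hc₁.mono hU₃, hc₂⟩
  choose U d₁ d₂ c₁ c₂ hU hxU hd₁ hd₂ hc₁ hc₂ using hch
  have hA : FlatMod.IsFinLocFree (A₁ ⊞ A₂) :=
    Groth.L16.HomSh.isFinLocFree_of_bases fun x => ⟨U x, _, _, hxU x, isBasisOn_biBasis (hd₁ x) (hd₂ x)⟩
  have hB : FlatMod.IsFinLocFree (B₁ ⊞ B₂) :=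
    Groth.L16.HomSh.isFinLocFree_of_bases fun x => ⟨U x, _, _, hxU x, isBasisOn_biBasis (hc₁ x) (hc₂ x)⟩
  haveI : IsLocallyNoetherian X := LocallyOfFiniteType.isLocallyNoetherian (X ↘ Spec (CommRingCat.of k))
  have hAc := Groth.L16.NegPow.isCoh_of_isFinLocFree hA
  have hBc := Groth.L16.NegPow.isCoh_of_isFinLocFree hB
  haveI : Coh.IsQCoh (A₁ ⊞ A₂ : X.Modules) := hAc.1
  haveI : Coh.IsQCoh (B₁ ⊞ B₂ : X.Modules) := hBc.1
  haveI := Groth.L16.Devissage.isQCoh_cokernel φ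
  have hft : CohB1.IsFT (cokernel φ) := (Groth.L16.CohKernel.isCoh_kernel_cokernel hAc hBc φ).2.2
  refine Set.eq_univ_of_forall fun x => ?_
  by_contra hx
  refine (Groth.L15.FittSheaf.notMem_support_iff _ hft _ (U := ⟨U x, hU x⟩) (hxU x)).1 hx ?_
  rw [fitting_coker (hU x) (isBasisOn_biBasis (hd₁ x) (hd₂ x)) (isBasisOn_biBasis (hc₁ x) (hc₂ x)),
    show b₁ + b₂ - (b₁ + b₂ - (a₁ + a₂)) = a₁ + a₂ by omega,
    minorIdeal_eq_bot _ (fun u v => ?_) hlt]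
  · exact bot_le
  · have h1 := homMat_blocks (d₁ := d₁ x) (d₂ := d₂ x) (hc₁ x) (hc₂ x) φ
    refine (congrFun (congrFun h1 (Sum.inl u)) (Sum.inr v)).trans ?_
    show homMat (d₂ x) (hc₁ x) (biprod.inr ≫ φ ≫ biprod.fst) u v = 0
    rw [h₂₁ (biprod.inr ≫ φ ≫ biprod.fst), homMat_zero]
    rfl

end Groth.L24.Degen
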