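import Groth.Agent.L24.Degen.Fibre
import Groth.Agent.L03.SurfAdj.Tools
import Groth.Agent.L22.Adjunction.SmoothClosed
import Groth.Agent.L07.RatSection

/-!
# Smooth schemes of constant relative dimension over a field
-/

set_option autoImplicit false
set_option linter.style.haveILetI false
set_option backward.isDefEq.respectTransparency.types false
set_option backward.isDefEq.respectTransparency false

universe u

open CategoryTheory TensorProduct KaehlerDifferential AlgebraicGeometry

noncomputable section

namespace Groth.L24.Degen

/-- A smooth algebra with differentials of constant rank is smooth of that relative dimension. -/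
theorem smoothOfRelativeDimension_spec {R T : Type u} [CommRing R] [CommRing T] [Algebra R T] [Algebra.Smooth R T]
    {d : ℕ} (h : ∀ x : PrimeSpectrum T, Module.rankAtStalk (Ω[T⁄R]) x = d) :
    SmoothOfRelativeDimension d (Spec.map (CommRingCat.ofHom (algebraMap R T))) := by
  rw [HasRingHomProperty.Spec_iff (P := @SmoothOfRelativeDimension d)]
  refine (RingHom.locally_iff_span_eq_top _).2 ?_
  by_contra hne
  obtain ⟨m, hm, hle⟩ := Ideal.exists_le_maximal _ hne
  haveI := hm.isPrime
  obtain ⟨g, hg, hstd⟩ := Algebra.IsSmoothAt.exists_notMem_isStandardSmooth R (S := T) m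
  refine hg (hle (Ideal.subset_span ?_))
  show RingHom.IsStandardSmoothOfRelativeDimension d ((algebraMap T (Localization.Away g)).comp (algebraMap R T))
  rw [← IsScalarTower.algebraMap_eq, RingHom.isStandardSmoothOfRelativeDimension_algebraMap]
  let L := Localization.Away g
  haveI : Algebra.IsStandardSmooth R L := hstd
  obtain ⟨q, -⟩ : (⟨m, hm.isPrime⟩ : PrimeSpectrum T) ∈ Set.range (PrimeSpectrum.comap (algebraMap T L)) := by
    rw [PrimeSpectrum.localization_away_comap_range L g]
    exact hg
  haveI : Nontrivial L := q.nontrivial
  rw [Algebra.IsStandardSmoothOfRelativeDimension.iff_of_isStandardSmooth d, ← Module.finrank_eq_rank]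
  congr 1
  have h1 := h (q.comap (algebraMap T L))
  rw [← Module.rankAtStalk_baseChange, Module.rankAtStalk_eq_of_equiv (tensorKaehlerEquivOfFormallyEtale R T L),
    Module.rankAtStalk_eq_finrank_of_free, Pi.natCast_apply] at h1
  exact h1

/-- The components of a scheme smooth of relative dimension `d` over a field have dimension `d`. -/
theorem dim_component {k : Type u} [Field k] {W : Scheme.{u}} (p : W ⟶ Spec (CommRingCat.of k)) (d : ℕ)
    [SmoothOfRelativeDimension d p] {Z : Set W} (hZ : Z ∈ irreducibleComponents (W : Type u)) :
    topologicalKrullDim Z = (d : WithBot ℕ∞) := by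
  haveI : Smooth p := SmoothOfRelativeDimension.smooth d p
  haveI : IsLocallyNoetherian W := LocallyOfFiniteType.isLocallyNoetherian p
  have hcl := isClosed_of_mem_irreducibleComponents Z hZ
  refine le_antisymm ((Topology.IsInducing.topologicalKrullDim_le (f := (Subtype.val : Z → W)) Topology.IsInducing.subtypeVal).trans
    (Groth.L22.Adjunction.topologicalKrullDim_le_relDim p d)) ?_
  obtain ⟨η, hη⟩ := QuasiSober.sober hZ.1 hcl
  haveI := Groth.L21.Smooth.isDomain_stalk p η
  obtain ⟨V, hηV, -, hVint⟩ := Groth.L07.RatSection.exists_integral_nhd η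
  haveI := hVint
  have hVi : IsIrreducible (V : Set W) := by
    rw [← Scheme.Opens.range_ι V, ← Set.image_univ]
    exact (IrreducibleSpace.isIrreducible_univ (X := (V : Scheme.{u}))).image _ V.ι.continuous.continuousOn
  have hVZ : (V : Set W) ⊆ Z := subset_closure.trans (hZ.2 hVi.closure (by
    rw [← hη.def]
    exact closure_mono (Set.singleton_subset_iff.2 hηV)))
  haveI : SmoothOfRelativeDimension d (V.ι ≫ p) := IsZariskiLocalAtSource.comp (P := @SmoothOfRelativeDimension d) ‹_› V.ι
  rw [← Groth.L03.SurfAdj.dim_of_relDim (V.ι ≫ p) d]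
  exact Topology.IsInducing.topologicalKrullDim_le (f := Set.inclusion hVZ) (Topology.IsEmbedding.inclusion hVZ).isInducing

end Groth.L24.Degen
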