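import Groth.Agent.L24.Degen.Sheaf
import Groth.Agent.L24.Degen.Dim
import Groth.Agent.L16.SmoothSection.Dim
import Mathlib.AlgebraicGeometry.IdealSheaf.Subscheme

/-!
# Charts of a rank locus
-/

set_option autoImplicit false
set_option linter.style.haveILetI false
set_option backward.isDefEq.respectTransparency.types false
set_option backward.isDefEq.respectTransparency false

universe u

open CategoryTheory CategoryTheory.Limits AlgebraicGeometry TopologicalSpace TensorProduct KaehlerDifferential

noncomputable section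

namespace Groth.L24.Degen

/-- Rank of the differentials where the map is locally standard smooth. -/
theorem rankAtStalk_of_locally {R A : Type u} [CommRing R] [CommRing A] [Algebra R A] [Algebra.Smooth R A] {n : ℕ}
    (h : RingHom.Locally (RingHom.IsStandardSmoothOfRelativeDimension n) (algebraMap R A)) (x : PrimeSpectrum A) :
    Module.rankAtStalk (Ω[A⁄R]) x = n := by
  obtain ⟨s, hs, hst⟩ := h
  obtain ⟨t, hts, htx⟩ : ∃ t ∈ s, t ∉ x.asIdeal := by
    by_contra hne
    push Not at hne
    exact x.isPrime.ne_top (top_unique (hs ▸ Ideal.span_le.2 hne))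
  let L := Localization.Away t
  obtain ⟨q, rfl⟩ : x ∈ Set.range (PrimeSpectrum.comap (algebraMap A L)) := by
    rw [PrimeSpectrum.localization_away_comap_range L t]
    exact htx
  have hstd := hst t hts
  rw [← IsScalarTower.algebraMap_eq, RingHom.isStandardSmoothOfRelativeDimension_algebraMap] at hstd
  haveI : Algebra.IsStandardSmoothOfRelativeDimension n R L := hstd
  haveI : Algebra.IsStandardSmooth R L := Algebra.IsStandardSmoothOfRelativeDimension.isStandardSmooth n
  haveI : Nontrivial L := q.nontrivial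
  rw [← Module.rankAtStalk_baseChange, Module.rankAtStalk_eq_of_equiv (tensorKaehlerEquivOfFormallyEtale R A L),
    Module.rankAtStalk_eq_finrank_of_free, Pi.natCast_apply]
  exact Module.finrank_eq_of_rank_eq (Algebra.IsStandardSmoothOfRelativeDimension.rank_kaehlerDifferential n)

/-- Differentials of an affine open of a smooth variety of dimension `n`. -/
theorem smooth_sec {k : Type u} [Field k] {X : Scheme.{u}} (p : X ⟶ Spec (CommRingCat.of k)) [IsIntegral X]
    [Smooth p] (n : ℕ) (hdim : topologicalKrullDim X = n) {U : X.Opens} (hU : IsAffineOpen U) :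
    letI := (sec p U).toAlgebra
    Algebra.Smooth k Γ(X, U) ∧ ∀ x : PrimeSpectrum Γ(X, U), Module.rankAtStalk (Ω[Γ(X, U)⁄k]) x = n := by
  letI := (sec p U).toAlgebra
  haveI := Groth.L16.SmoothSection.smoothOfRelativeDimension_dim p n hdim
  have h1 : Smooth (hU.fromSpec ≫ p) := inferInstance
  have h2 : SmoothOfRelativeDimension n (hU.fromSpec ≫ p) :=
    IsZariskiLocalAtSource.comp (P := @SmoothOfRelativeDimension n) ‹_› hU.fromSpec
  rw [fromSpec_comp, HasRingHomProperty.Spec_iff (P := @Smooth)] at h1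
  rw [fromSpec_comp, HasRingHomProperty.Spec_iff (P := @SmoothOfRelativeDimension n)] at h2
  haveI : Algebra.Smooth k Γ(X, U) := RingHom.smooth_algebraMap.1 h1
  exact ⟨inferInstance, rankAtStalk_of_locally h2⟩

/-- A chart of a rank locus: `Spec` of a quotient of a localization. -/
theorem exists_chart {k : Type u} [Field k] {X : Scheme.{u}} (p : X ⟶ Spec (CommRingCat.of k))
    (I : X.IdealSheafData) (U : X.affineOpens) (δ : Γ(X, U.1)) (J : Ideal (Localization.Away δ))
    (hJ : J = (I.ideal U).map (algebraMap Γ(X, U.1) (Localization.Away δ))) :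
    ∃ j : Spec (CommRingCat.of (Localization.Away δ ⧸ J)) ⟶ I.subscheme, IsOpenImmersion j ∧
      (letI := (sec p U.1).toAlgebra
       j ≫ I.subschemeι ≫ p = Spec.map (CommRingCat.ofHom (algebraMap k (Localization.Away δ ⧸ J)))) ∧
      ∀ y : X, y ∈ Set.range (j ≫ I.subschemeι) ↔
        ∃ hy : y ∈ U.1, I.ideal U ≤ (U.2.primeIdealOf ⟨y, hy⟩).asIdeal ∧
          δ ∉ (U.2.primeIdealOf ⟨y, hy⟩).asIdeal := by
  subst hJ
  let a : (Γ(X, U.1) ⧸ I.ideal U) →+* (Localization.Away δ ⧸ (I.ideal U).map (algebraMap Γ(X, U.1) (Localization.Away δ))) := Ideal.quotientMap _ (algebraMap Γ(X, U.1) (Localization.Away δ)) Ideal.le_comap_map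
  letI : Algebra (Γ(X, U.1) ⧸ I.ideal U) (Localization.Away δ ⧸ (I.ideal U).map (algebraMap Γ(X, U.1) (Localization.Away δ))) := a.toAlgebra
  haveI : IsLocalization.Away (Ideal.Quotient.mk (I.ideal U) δ) (Localization.Away δ ⧸ (I.ideal U).map (algebraMap Γ(X, U.1) (Localization.Away δ))) := by
    have h := IsLocalization.of_surjective (Submonoid.powers δ) (Localization.Away δ) (R' := Γ(X, U.1) ⧸ I.ideal U) (S' := (Localization.Away δ ⧸ (I.ideal U).map (algebraMap Γ(X, U.1) (Localization.Away δ))))
      (Ideal.Quotient.mk (I.ideal U)) Ideal.Quotient.mk_surjective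
      (Ideal.Quotient.mk ((I.ideal U).map (algebraMap Γ(X, U.1) (Localization.Away δ)))) Ideal.Quotient.mk_surjective
      (RingHom.ext fun z => rfl) (by rw [Ideal.mk_ker, Ideal.mk_ker])
    rwa [Submonoid.map_powers] at h
  let j₁ : Spec (CommRingCat.of (Localization.Away δ ⧸ (I.ideal U).map (algebraMap Γ(X, U.1) (Localization.Away δ)))) ⟶ Spec (CommRingCat.of (Γ(X, U.1) ⧸ I.ideal U)) :=
    Spec.map (CommRingCat.ofHom (algebraMap (Γ(X, U.1) ⧸ I.ideal U) (Localization.Away δ ⧸ (I.ideal U).map (algebraMap Γ(X, U.1) (Localization.Away δ)))))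
  haveI : IsOpenImmersion j₁ := IsOpenImmersion.of_isLocalization (Ideal.Quotient.mk (I.ideal U) δ)
  haveI : IsOpenImmersion (I.subschemeCover.f U) := I.subschemeCover.map_prop U
  let q : Spec (CommRingCat.of (Localization.Away δ ⧸ (I.ideal U).map (algebraMap Γ(X, U.1) (Localization.Away δ)))) ⟶ Spec (CommRingCat.of Γ(X, U.1)) := Spec.map (CommRingCat.ofHom (algebraMap Γ(X, U.1) (Localization.Away δ ⧸ (I.ideal U).map (algebraMap Γ(X, U.1) (Localization.Away δ)))))
  let j := j₁ ≫ I.subschemeCover.f U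
  have hι : j ≫ I.subschemeι = q ≫ U.2.fromSpec := by
    simp only [j, Category.assoc, Scheme.IdealSheafData.subschemeCover_map_subschemeι,
      Scheme.IdealSheafData.glueDataObjι, IsAffineOpen.isoSpec_inv_ι]
    rw [← Category.assoc]
    congr 1
    exact (Spec.map_comp _ _).symm
  refine ⟨j, inferInstance, ?_, fun y => ?_⟩
  · letI := (sec p U.1).toAlgebra
    rw [← Category.assoc, hι, Category.assoc, fromSpec_comp p U.2, ← Spec.map_comp]
    rfl
  · rw [hι]
    constructor
    · rintro ⟨t, rfl⟩
      have hy : (q ≫ U.2.fromSpec) t ∈ U.1 := U.2.range_fromSpec.le ⟨q t, rfl⟩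
      refine ⟨hy, ?_⟩
      have : U.2.primeIdealOf ⟨(q ≫ U.2.fromSpec) t, hy⟩ = q t :=
        U.2.fromSpec.isOpenEmbedding.injective (U.2.fromSpec_primeIdealOf _)
      rw [this]
      refine ⟨fun z hz => ?_, fun hδ => ?_⟩
      · show algebraMap Γ(X, U.1) (Localization.Away δ ⧸ (I.ideal U).map (algebraMap Γ(X, U.1) (Localization.Away δ))) z ∈ t.asIdeal
        rw [IsScalarTower.algebraMap_apply Γ(X, U.1) (Localization.Away δ) (Localization.Away δ ⧸ (I.ideal U).map (algebraMap Γ(X, U.1) (Localization.Away δ))),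
          show algebraMap (Localization.Away δ) (Localization.Away δ ⧸ (I.ideal U).map (algebraMap Γ(X, U.1) (Localization.Away δ))) (algebraMap Γ(X, U.1) (Localization.Away δ) z) = 0 from Ideal.Quotient.eq_zero_iff_mem.2 (Ideal.mem_map_of_mem _ hz)]
        exact zero_mem _
      · exact t.isPrime.ne_top (Ideal.eq_top_of_isUnit_mem _ hδ (by
          show IsUnit (algebraMap Γ(X, U.1) (Localization.Away δ ⧸ (I.ideal U).map (algebraMap Γ(X, U.1) (Localization.Away δ))) δ)
          rw [IsScalarTower.algebraMap_apply Γ(X, U.1) (Localization.Away δ) (Localization.Away δ ⧸ (I.ideal U).map (algebraMap Γ(X, U.1) (Localization.Away δ)))]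
          exact (IsLocalization.Away.algebraMap_isUnit δ).map _))
    · rintro ⟨hy, hI, hδ⟩
      set P := U.2.primeIdealOf ⟨y, hy⟩
      obtain ⟨P', hP'⟩ : P ∈ Set.range (PrimeSpectrum.comap (Ideal.Quotient.mk (I.ideal U))) := by
        rw [range_comap_of_surjective _ _ Ideal.Quotient.mk_surjective, Ideal.mk_ker]
        exact hI
      obtain ⟨t, ht⟩ : P' ∈ Set.range (PrimeSpectrum.comap (algebraMap (Γ(X, U.1) ⧸ I.ideal U) (Localization.Away δ ⧸ (I.ideal U).map (algebraMap Γ(X, U.1) (Localization.Away δ))))) := by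
        rw [PrimeSpectrum.localization_away_comap_range (Localization.Away δ ⧸ (I.ideal U).map (algebraMap Γ(X, U.1) (Localization.Away δ))) (Ideal.Quotient.mk (I.ideal U) δ)]
        intro h
        rw [← hP'] at hδ
        exact hδ h
      refine ⟨t, ?_⟩
      show U.2.fromSpec (q t) = y
      have hqt : q t = P := by
        rw [← hP', ← ht]
        rfl
      rw [hqt]
      exact U.2.fromSpec_primeIdealOf _

/-- An injection extends to a reindexing. -/
theorem exists_equiv_extend {r f : ℕ} (hrf : r ≤ f) (g : Fin r → Fin f) (hg : Function.Injective g) :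
    ∃ σ : Fin r ⊕ Fin (f - r) ≃ Fin f, ∀ a, σ (Sum.inl a) = g a := by
  let G : Fin r ⊕ Fin (f - r) → Fin f := Sum.elim g fun x => ⟨x.1, by omega⟩
  obtain ⟨e, he⟩ := Finset.exists_equiv_extend_of_card_eq (t := (Finset.univ : Finset (Fin f))) (f := G)
    (s := Finset.univ.image Sum.inl) (by simp; omega) (Finset.subset_univ _) (by
      intro a ha b hb hab
      simp only [Finset.coe_image, Finset.coe_univ, Set.image_univ, Set.mem_range] at ha hb
      obtain ⟨a, rfl⟩ := ha
      obtain ⟨b, rfl⟩ := hb
      exact congrArg Sum.inl (hg hab))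
  exact ⟨e.trans (Equiv.subtypeUnivEquiv Finset.mem_univ), fun a => he (Sum.inl a) (by simp)⟩

/-- A minor outside a prime gives a reindexing with invertible corner. -/
theorem exists_corner {R : Type u} [CommRing R] {r e f : ℕ} (hre : r ≤ e) (hrf : r ≤ f)
    (M : Matrix (Fin f) (Fin e) R) (P : Ideal R) (h : ¬ CAlgX.minorIdeal M r ≤ P) :
    ∃ (σ : Fin r ⊕ Fin (f - r) ≃ Fin f) (τ : Fin r ⊕ Fin (e - r) ≃ Fin e),
      (M.submatrix σ τ).toBlocks₁₁.det ∉ P := by
  obtain ⟨_, ⟨⟨g, h'⟩, rfl⟩, hgh⟩ := Set.not_subset.1 (fun hs => h (Ideal.span_le.2 hs))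
  have hg : Function.Injective g := fun a b hab => by
    by_contra hne
    refine hgh ?_
    show (M.submatrix g h').det ∈ P
    rw [Matrix.det_zero_of_row_eq hne (funext fun l => by simp [hab])]
    exact P.zero_mem
  have hh : Function.Injective h' := fun a b hab => by
    by_contra hne
    refine hgh ?_
    show (M.submatrix g h').det ∈ P
    rw [Matrix.det_zero_of_column_eq hne (fun l => by simp [hab])]
    exact P.zero_mem
  obtain ⟨σ, hσ⟩ := exists_equiv_extend hrf g hg
  obtain ⟨τ, hτ⟩ := exists_equiv_extend hre h' hh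
  refine ⟨σ, τ, fun hmem => hgh ?_⟩
  have : (M.submatrix σ τ).toBlocks₁₁ = M.submatrix g h' := by
    ext a b
    simp [Matrix.toBlocks₁₁, hσ, hτ]
  rwa [this] at hmem

end Groth.L24.Degen
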