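import Groth.Agent.L24.Degen.Universal
import Groth.Agent.L24.Kleiman.Main
import Mathlib.RingTheory.Kaehler.TensorProduct
import Mathlib.RingTheory.Smooth.Fiber
import Mathlib.AlgebraicGeometry.Morphisms.Smooth

/-!
# General members have smooth rank loci of the expected dimension
-/

set_option autoImplicit false
set_option linter.style.haveILetI false
set_option backward.isDefEq.respectTransparency false

universe u

open CategoryTheory TensorProduct KaehlerDifferential MvPolynomial AlgebraicGeometry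

noncomputable section

namespace Groth.L24.Degen

variable {k A : Type u} [Field k] [CommRing A] [Algebra k A] {m r p q : ℕ}
variable (Mf : Fin m → Matrix (Fin r ⊕ Fin p) (Fin r ⊕ Fin q) A)

/-- A member of the family. -/
def memM (c : Fin m → k) : Matrix (Fin r ⊕ Fin p) (Fin r ⊕ Fin q) A := ∑ j, algebraMap k A (c j) • Mf j

/-- The chart of the rank locus of a member. -/
abbrev MemQ (c : Fin m → k) : Type u :=
  Localization.Away (memM Mf c).toBlocks₁₁.det ⧸
    Ideal.span (Set.range fun l : Fin p × Fin q =>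
      algebraMap A (Localization.Away (memM Mf c).toBlocks₁₁.det) (schur (memM Mf c) l.1 l.2))

/-- Evaluation of the coefficients. -/
def evC (c : Fin m → k) : MvPolynomial (Fin m) A →+* A :=
  eval₂Hom (RingHom.id A) (fun j => algebraMap k A (c j))

theorem map_univM (c : Fin m → k) : (univM Mf).map (evC c) = memM Mf c := by
  ext a b
  simp [univM, memM, evC, Matrix.sum_apply, Matrix.smul_apply, Algebra.smul_def, mul_comm]

theorem evC_univδ (c : Fin m → k) : evC c (univδ Mf) = (memM Mf c).toBlocks₁₁.det := by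
  rw [univδ, RingHom.map_det, ← map_univM Mf c]
  rfl

theorem evC_schur (c : Fin m → k) (i : Fin p) (j : Fin q) :
    evC c (schur (univM Mf) i j) = schur (memM Mf c) i j := by
  rw [← map_univM Mf c, schur_map]
  rfl

/-- Homomorphisms out of a quotient of a localization agree if they agree on the ring. -/
theorem ringHom_ext_quot {R S : Type u} [CommRing R] [CommRing S] {x : R} {I : Ideal (Localization.Away x)}
    {f g : Localization.Away x ⧸ I →+* S}
    (h : f.comp ((Ideal.Quotient.mk I).comp (algebraMap R (Localization.Away x))) =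
      g.comp ((Ideal.Quotient.mk I).comp (algebraMap R (Localization.Away x)))) : f = g :=
  Ideal.Quotient.ringHom_ext (IsLocalization.ringHom_ext (Submonoid.powers x) h)

/-- An open subset of a smooth morphism gives a smooth ring map. -/
theorem smooth_away_of_scheme {P B : Type u} [CommRing P] [CommRing B] [Algebra P B] (g : P)
    (V : (Spec (CommRingCat.of P)).Opens) (hg : ∀ x : Spec (CommRingCat.of P), g ∉ x.asIdeal → x ∈ V)
    (hV : Smooth ((Spec.map (CommRingCat.ofHom (algebraMap P B)) ⁻¹ᵁ V).ι ≫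
      Spec.map (CommRingCat.ofHom (algebraMap P B)))) :
    Algebra.Smooth P (Localization.Away (algebraMap P B g)) := by
  set π := Spec.map (CommRingCat.ofHom (algebraMap P B))
  let L := Localization.Away (algebraMap P B g)
  let j : Spec (CommRingCat.of L) ⟶ Spec (CommRingCat.of B) := Spec.map (CommRingCat.ofHom (algebraMap B L))
  haveI : IsOpenImmersion j := IsOpenImmersion.of_isLocalization (algebraMap P B g)
  have hr : Set.range j ⊆ Set.range (π ⁻¹ᵁ V).ι := by
    rintro _ ⟨x, rfl⟩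
    rw [Scheme.Opens.range_ι]
    refine hg _ fun hx => ?_
    exact x.isPrime.ne_top (Ideal.eq_top_of_isUnit_mem _ hx (IsLocalization.Away.algebraMap_isUnit (algebraMap P B g)))
  let i := IsOpenImmersion.lift (π ⁻¹ᵁ V).ι j hr
  haveI : IsOpenImmersion i := by
    have : IsOpenImmersion (i ≫ (π ⁻¹ᵁ V).ι) := by rw [IsOpenImmersion.lift_fac]; infer_instance
    exact IsOpenImmersion.of_comp i (π ⁻¹ᵁ V).ι
  have h : Smooth (j ≫ π) := by
    rw [← IsOpenImmersion.lift_fac (π ⁻¹ᵁ V).ι j hr, Category.assoc]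
    infer_instance
  rw [← Spec.map_comp, HasRingHomProperty.Spec_iff (P := @Smooth)] at h
  rw [← RingHom.smooth_algebraMap, IsScalarTower.algebraMap_eq P B L]
  exact h

section Away

variable [CharZero k] {Q : Type u} [CommRing Q] [Algebra k Q]

/-- Generic smoothness, with ranks, for a family of algebras over affine space. -/
theorem exists_poly_of_hom [hsm : Algebra.Smooth k Q] (φ : MvPolynomial (Fin m) k →ₐ[k] Q) {s n : ℕ}
    (hrk : ∀ x : PrimeSpectrum Q, s + Module.rankAtStalk (Ω[Q⁄k]) x = n + m) :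
    ∃ g : MvPolynomial (Fin m) k, g ≠ 0 ∧ ∀ c : Fin m → k, eval c g ≠ 0 →
      ∀ (T : Type u) [CommRing T] [Algebra k T] (ψ : Q →ₐ[k] T), Function.Surjective ψ →
        (∀ z, ψ (φ z) = algebraMap k T (eval c z)) →
        (∀ z, ψ z = 0 → z ∈ Ideal.span (Set.range fun j => φ (X j) - algebraMap k Q (c j))) →
        Algebra.Smooth k T ∧ ∀ x : PrimeSpectrum T, s + Module.rankAtStalk (Ω[T⁄k]) x = n := by
  let P₀ := MvPolynomial (Fin m) k
  letI algQ : Algebra P₀ Q := φ.toRingHom.toAlgebra
  haveI : IsScalarTower k P₀ Q := IsScalarTower.of_algebraMap_eq fun c => (φ.commutes c).symm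
  let π : Spec (CommRingCat.of Q) ⟶ Spec (CommRingCat.of P₀) := Spec.map (CommRingCat.ofHom (algebraMap P₀ Q))
  let qW : Spec (CommRingCat.of Q) ⟶ Spec (CommRingCat.of k) := Spec.map (CommRingCat.ofHom (algebraMap k Q))
  let qG : Spec (CommRingCat.of P₀) ⟶ Spec (CommRingCat.of k) := Spec.map (CommRingCat.ofHom (algebraMap k P₀))
  haveI : Smooth qW := (HasRingHomProperty.Spec_iff (P := @Smooth)).2 (RingHom.smooth_algebraMap.2 hsm)
  haveI : LocallyOfFiniteType qG := (HasRingHomProperty.Spec_iff (P := @LocallyOfFiniteType)).2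
    (RingHom.finiteType_algebraMap.2 inferInstance)
  haveI : IsIntegral (Spec (CommRingCat.of P₀)) := inferInstance
  obtain ⟨V, hVne, hV⟩ := Groth.L24.Kleiman.exists_smooth_over qW qG π (by
    rw [← Spec.map_comp]
    exact congrArg Spec.map (CommRingCat.hom_ext (IsScalarTower.algebraMap_eq k P₀ Q).symm))
  obtain ⟨x, hx⟩ := hVne
  obtain ⟨_, ⟨g, rfl⟩, hxg, hgV⟩ :=
    PrimeSpectrum.isTopologicalBasis_basic_opens.exists_subset_of_mem_open hx V.2
  refine ⟨g, fun h0 => hxg (h0 ▸ Ideal.zero_mem _), fun c hc T _ _ ψ hψs hψP hψk => ?_⟩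
  let gQ := algebraMap P₀ Q g
  let B := Localization.Away gQ
  haveI hB : Algebra.Smooth P₀ B := smooth_away_of_scheme g V (fun y hy => hgV hy) hV
  haveI : Algebra.Smooth Q B := Algebra.Smooth.of_isLocalization_Away gQ
  haveI : Algebra.Smooth k B := Algebra.Smooth.comp k Q B
  haveI : Algebra.Smooth k P₀ := ⟨inferInstance, inferInstance⟩
  have hrB : ∀ y : PrimeSpectrum B, s + Module.rankAtStalk (Ω[B⁄P₀]) y = n := fun y => by
    have h1 := hrk (y.comap (algebraMap Q B))
    have h2 := rank_tower k P₀ B y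
    rw [← Module.rankAtStalk_eq_of_equiv (tensorKaehlerEquivOfFormallyEtale k Q B),
      Module.rankAtStalk_baseChange,
      Module.rankAtStalk_eq_of_equiv (KaehlerDifferential.mvPolynomialBasis k (Fin m)).repr,
      Module.rankAtStalk_eq_finrank_of_free (M := Fin m →₀ MvPolynomial (Fin m) k), Pi.natCast_apply,
      Module.finrank_finsupp_self, Fintype.card_fin] at h2
    simp only [Nat.cast_id] at h2
    omega
  letI algk : Algebra P₀ k := (MvPolynomial.eval c).toAlgebra
  let F := k ⊗[P₀] B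
  letI algT : Algebra P₀ T := ((algebraMap k T).comp (eval c)).toAlgebra
  haveI : IsScalarTower P₀ k T := IsScalarTower.of_algebraMap_eq fun _ => rfl
  let ψB : B →+* T := IsLocalization.Away.lift gQ (g := ψ.toRingHom) (by
    show IsUnit (ψ (φ g))
    rw [hψP]; exact (isUnit_iff_ne_zero.2 hc).map _)
  have hψA : ∀ z : P₀, ψB (algebraMap P₀ B z) = algebraMap P₀ T z := fun z => by
    rw [IsScalarTower.algebraMap_apply P₀ Q B, IsLocalization.Away.lift_eq]
    exact hψP z
  let ψA : B →ₐ[P₀] T := { toRingHom := ψB, commutes' := hψA }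
  let Ψ : F →ₐ[k] T := Algebra.TensorProduct.lift (Algebra.ofId k T) ψA fun _ _ => Commute.all _ _
  let ι : Q →+* F := (Algebra.TensorProduct.includeRight : B →ₐ[P₀] F).toRingHom.comp (algebraMap Q B)
  have hιP : ∀ z : P₀, ι (φ z) = (eval c z) ⊗ₜ[P₀] (1 : B) := fun z => by
    show (1 : k) ⊗ₜ[P₀] (algebraMap Q B (algebraMap P₀ Q z)) = _
    rw [← IsScalarTower.algebraMap_apply, Algebra.algebraMap_eq_smul_one, ← TensorProduct.smul_tmul,
      Algebra.smul_def, mul_one]
    rfl
  have hker : ∀ z, ψ z = 0 → ι z = 0 := fun z hz => by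
    refine (Ideal.span_le (I := RingHom.ker ι)).2 ?_ (hψk z hz)
    rintro _ ⟨j, rfl⟩
    rw [SetLike.mem_coe, RingHom.mem_ker, map_sub, sub_eq_zero, ← φ.commutes, hιP, hιP]
    rw [eval_X, IsScalarTower.algebraMap_apply k k (MvPolynomial (Fin m) k)]
    simp
  let θ : T →+* F := ψ.toRingHom.liftOfSurjective hψs ⟨ι, fun z hz => hker z hz⟩
  have hθ : ∀ z, θ (ψ z) = ι z := fun z => RingHom.liftOfRightInverse_comp_apply _ _ _ _ z
  have hΨι : ∀ z, Ψ (ι z) = ψ z := fun z => by
    show Ψ ((1 : k) ⊗ₜ[P₀] algebraMap Q B z) = _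
    rw [Algebra.TensorProduct.lift_tmul, map_one, one_mul]
    show ψB (algebraMap Q B z) = _
    rw [IsLocalization.Away.lift_eq]
    rfl
  have hleft : ∀ w : F, θ (Ψ w) = w := by
    have : θ.comp Ψ.toRingHom = RingHom.id F := by
      refine Algebra.TensorProduct.ringHom_ext (RingHom.ext fun a => ?_)
        (IsLocalization.ringHom_ext (Submonoid.powers gQ) (RingHom.ext fun z => ?_))
      · show θ (Ψ (a ⊗ₜ[P₀] (1 : B))) = a ⊗ₜ[P₀] (1 : B)
        have h3 : a ⊗ₜ[P₀] (1 : B) = ι (φ (C a)) := by rw [hιP, eval_C]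
        rw [h3, hΨι, hθ]
      · show θ (Ψ (ι z)) = ι z
        rw [hΨι, hθ]
    exact fun w => RingHom.congr_fun this w
  have hright : Function.Surjective Ψ := fun t => by
    obtain ⟨z, rfl⟩ := hψs t
    exact ⟨ι z, hΨι z⟩
  let e : F ≃ₐ[k] T := AlgEquiv.ofBijective Ψ ⟨Function.LeftInverse.injective hleft, hright⟩
  haveI : Algebra.Smooth k F := inferInstance
  refine ⟨Algebra.Smooth.of_equiv e, fun y => ?_⟩
  letI : Algebra B F := Algebra.TensorProduct.rightAlgebra
  letI : Algebra F T := e.toRingHom.toAlgebra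
  haveI : IsScalarTower k F T := IsScalarTower.of_algebraMap_eq (R := k) (S := F) (A := T) fun a => (e.commutes a).symm
  haveI : Algebra.FormallyEtale F T :=
    Algebra.FormallyEtale.of_equiv (AlgEquiv.ofBijective (Algebra.ofId F T) e.bijective)
  rw [← Module.rankAtStalk_eq_of_equiv (tensorKaehlerEquivOfFormallyEtale k F T), Module.rankAtStalk_baseChange,
    ← Module.rankAtStalk_eq_of_equiv (M := F ⊗[B] Ω[B⁄P₀]) (KaehlerDifferential.tensorKaehlerEquiv P₀ k B F),
    Module.rankAtStalk_baseChange]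
  exact hrB _

end Away

variable [CharZero k] [Algebra.Smooth k A]

theorem exists_poly_memQ (hspan : ∀ i j, Matrix.single (Sum.inr i : Fin r ⊕ Fin p) (Sum.inr j : Fin r ⊕ Fin q) (1 : A) ∈ Submodule.span A (Set.range Mf)) {n : ℕ}
    (hn : ∀ x : PrimeSpectrum A, Module.rankAtStalk (Ω[A⁄k]) x = n) :
    ∃ g : MvPolynomial (Fin m) k, g ≠ 0 ∧ ∀ c : Fin m → k, eval c g ≠ 0 →
      Algebra.Smooth k (MemQ Mf c) ∧
        ∀ x : PrimeSpectrum (MemQ Mf c), p * q + Module.rankAtStalk (Ω[(MemQ Mf c)⁄k]) x = n := by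
  obtain ⟨hsm, hrk⟩ := smooth_univQ (k := k) Mf hspan hn
  haveI := hsm
  let toQ : MvPolynomial (Fin m) A →+* UnivQ Mf :=
    (Ideal.Quotient.mk _).comp (algebraMap (MvPolynomial (Fin m) A) (UnivLoc Mf))
  have hφk : ∀ a : k, (toQ.comp (MvPolynomial.map (algebraMap k A))) (C a) = algebraMap k (UnivQ Mf) a :=
    fun a => by
      show toQ (MvPolynomial.map (algebraMap k A) (C a)) = _
      rw [map_C]
      rfl
  let φ : MvPolynomial (Fin m) k →ₐ[k] UnivQ Mf :=
    { toRingHom := toQ.comp (MvPolynomial.map (algebraMap k A)), commutes' := hφk }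
  obtain ⟨g, hg0, hg⟩ := exists_poly_of_hom φ hrk
  refine ⟨g, hg0, fun c hc => ?_⟩
  let M := memM Mf c
  let toT : A →+* MemQ Mf c := algebraMap A (MemQ Mf c)
  have hδT : IsUnit (toT M.toBlocks₁₁.det) := by
    show IsUnit (Ideal.Quotient.mk _ (algebraMap A (Localization.Away M.toBlocks₁₁.det) M.toBlocks₁₁.det))
    exact (IsLocalization.Away.algebraMap_isUnit _).map _
  let ψR : MvPolynomial (Fin m) A →+* MemQ Mf c := toT.comp (evC c)
  have hψR : IsUnit (ψR (univδ Mf)) := by
    show IsUnit (toT (evC c (univδ Mf))); rw [evC_univδ]; exact hδT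
  let ψL : UnivLoc Mf →+* MemQ Mf c := IsLocalization.Away.lift (univδ Mf) hψR
  let ψQ : UnivQ Mf →+* MemQ Mf c := Ideal.Quotient.lift _ ψL fun z hz => by
    refine (Ideal.span_le (I := RingHom.ker ψL)).2 ?_ hz
    rintro _ ⟨l, rfl⟩
    show ψL (algebraMap _ _ _) = 0
    rw [IsLocalization.Away.lift_eq]
    show toT (evC c _) = 0
    rw [evC_schur]
    exact Ideal.Quotient.eq_zero_iff_mem.2 (Ideal.subset_span ⟨l, rfl⟩)
  have hψQ : ∀ z, ψQ (toQ z) = toT (evC c z) := fun z => IsLocalization.Away.lift_eq _ hψR z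
  have hψk : ∀ a : k, ψQ (algebraMap k (UnivQ Mf) a) = algebraMap k (MemQ Mf c) a := fun a => by
    rw [← hφk]
    show ψQ (toQ (MvPolynomial.map (algebraMap k A) (C a))) = _
    rw [map_C, hψQ]
    simp [evC, toT, ← IsScalarTower.algebraMap_apply]
  let ψ : UnivQ Mf →ₐ[k] MemQ Mf c := { toRingHom := ψQ, commutes' := hψk }
  let J := Ideal.span (Set.range fun j => φ (X j) - algebraMap k (UnivQ Mf) (c j))
  let θ₀ : A →+* UnivQ Mf ⧸ J := ((Ideal.Quotient.mk J).comp toQ).comp C
  have hfac : (Ideal.Quotient.mk J).comp toQ = θ₀.comp (evC c) :=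
    MvPolynomial.ringHom_ext (fun a => by simp [θ₀, evC]) fun j => by
      simp only [RingHom.comp_apply, evC, eval₂Hom_X', θ₀]
      refine Ideal.Quotient.eq.2 ?_
      have : toQ (C (algebraMap k A (c j))) = algebraMap k (UnivQ Mf) (c j) := by
        exact (congrArg toQ (map_C _ (c j)).symm).trans (hφk (c j))
      rw [this]
      refine Ideal.subset_span ⟨j, ?_⟩
      show toQ (MvPolynomial.map (algebraMap k A) (X j)) - _ = _
      rw [map_X]
  have hunit : IsUnit (θ₀ M.toBlocks₁₁.det) := by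
    rw [← evC_univδ]
    show IsUnit (θ₀.comp (evC c) (univδ Mf))
    rw [← hfac]
    exact ((IsLocalization.Away.algebraMap_isUnit (univδ Mf)).map (Ideal.Quotient.mk _)).map (Ideal.Quotient.mk J)
  let θL : Localization.Away M.toBlocks₁₁.det →+* UnivQ Mf ⧸ J :=
    IsLocalization.Away.lift (S := Localization.Away M.toBlocks₁₁.det) (P := UnivQ Mf ⧸ J) M.toBlocks₁₁.det (g := θ₀) hunit
  let θ : MemQ Mf c →+* UnivQ Mf ⧸ J :=
    Ideal.Quotient.lift _ θL fun z hz => by
      refine (Ideal.span_le (I := RingHom.ker _)).2 ?_ hz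
      rintro _ ⟨l, rfl⟩
      show θL (algebraMap A _ _) = 0
      rw [IsLocalization.Away.lift_eq, ← evC_schur]
      show θ₀.comp (evC c) _ = 0
      rw [← hfac]
      show Ideal.Quotient.mk J (Ideal.Quotient.mk (Ideal.span (Set.range (univEq Mf))) (univEq Mf l)) = 0
      have h0 : Ideal.Quotient.mk (Ideal.span (Set.range (univEq Mf))) (univEq Mf l) = 0 :=
        Ideal.Quotient.eq_zero_iff_mem.2 (Ideal.subset_span ⟨l, rfl⟩)
      rw [h0, map_zero]
  have hθψ : θ.comp ψQ = Ideal.Quotient.mk J := by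
    refine ringHom_ext_quot (R := MvPolynomial (Fin m) A) (S := UnivQ Mf ⧸ J) (x := univδ Mf) (I := Ideal.span (Set.range (univEq Mf))) ?_
    refine RingHom.ext fun z => ?_
    show θ (ψQ (toQ z)) = Ideal.Quotient.mk J (toQ z)
    rw [hψQ]
    refine (IsLocalization.Away.lift_eq (S := Localization.Away M.toBlocks₁₁.det) (P := UnivQ Mf ⧸ J) (g := θ₀) M.toBlocks₁₁.det hunit _).trans ?_
    exact (RingHom.congr_fun hfac z).symm
  refine hg c hc (MemQ Mf c) ψ (fun t => ?_) (fun z => ?_) fun z hz => ?_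
  · obtain ⟨u, rfl⟩ := Ideal.Quotient.mk_surjective t
    obtain ⟨⟨a, ⟨_, ⟨e, rfl⟩⟩⟩, ha⟩ := IsLocalization.surj (Submonoid.powers M.toBlocks₁₁.det) u
    obtain ⟨v, hv⟩ := ((IsLocalization.Away.algebraMap_isUnit (univδ Mf)).map
      (Ideal.Quotient.mk (Ideal.span (Set.range (univEq Mf))))).exists_left_inv
    refine ⟨toQ (C a) * v ^ e, ?_⟩
    show ψQ _ = _
    have ha' := congrArg (Ideal.Quotient.mk (Ideal.span (Set.range fun l : Fin p × Fin q =>
      algebraMap A (Localization.Away M.toBlocks₁₁.det) (schur M l.1 l.2)))) ha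
    have h1 : ψQ (toQ (univδ Mf)) = toT M.toBlocks₁₁.det := (hψQ _).trans (congrArg toT (evC_univδ Mf c))
    have hv' : ψQ v * toT M.toBlocks₁₁.det = 1 := by
      rw [← h1, ← map_mul, ← map_one ψQ]
      exact congrArg ψQ hv
    simp only [map_mul, map_pow] at ha'
    rw [map_mul, map_pow, hψQ]
    simp only [evC, eval₂Hom_C, RingHom.id_apply]
    refine (congrArg (· * ψQ v ^ e) ha').symm.trans ?_
    show _ * toT M.toBlocks₁₁.det ^ e * ψQ v ^ e = _
    rw [mul_assoc, ← mul_pow, mul_comm (toT _) (ψQ v), hv', one_pow, mul_one]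
  · show ψQ (toQ (MvPolynomial.map (algebraMap k A) z)) = _
    rw [hψQ]
    refine RingHom.congr_fun (f := toT.comp ((evC c).comp (MvPolynomial.map (algebraMap k A))))
      (g := (algebraMap k (MemQ Mf c)).comp (eval c)) (MvPolynomial.ringHom_ext (fun a => ?_) fun j => ?_) z
    · simp [evC, toT, ← IsScalarTower.algebraMap_apply]
    · simp [evC, toT, ← IsScalarTower.algebraMap_apply]
  · refine Ideal.Quotient.eq_zero_iff_mem.1 ?_
    rw [← RingHom.congr_fun hθψ z, RingHom.comp_apply]
    show θ (ψ z) = 0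
    rw [hz, map_zero]

end Groth.L24.Degen
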