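import Mathlib.RingTheory.Smooth.Kaehler
import Mathlib.RingTheory.Smooth.Basic
import Mathlib.RingTheory.Kaehler.JacobiZariski
import Mathlib.RingTheory.Spectrum.Prime.FreeLocus
import Mathlib.RingTheory.Etale.Kaehler
import Mathlib.RingTheory.Kaehler.Polynomial
import Mathlib.RingTheory.FinitePresentation
import Mathlib.RingTheory.Smooth.Locus
import Mathlib.RingTheory.Smooth.StandardSmoothCotangent

/-!
# Ranks of modules of differentials
-/

set_option autoImplicit false
set_option linter.style.haveILetI false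
set_option backward.isDefEq.respectTransparency false

universe u

open TensorProduct KaehlerDifferential

namespace Groth.L24.Degen

variable (k A Q : Type u) [CommRing k] [CommRing A] [CommRing Q] [Algebra k A] [Algebra A Q] [Algebra k Q]
  [IsScalarTower k A Q]

/-- Additivity of the rank of differentials in a tower with smooth top. -/
theorem rank_tower [Algebra.Smooth k A] [Algebra.Smooth A Q] [Algebra.Smooth k Q] (q : PrimeSpectrum Q) :
    Module.rankAtStalk (Ω[Q⁄k]) q =
      Module.rankAtStalk (Ω[A⁄k]) (q.comap (algebraMap A Q)) + Module.rankAtStalk (Ω[Q⁄A]) q := by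
  have hinj : Function.Injective (mapBaseChange k A Q) := by
    rw [injective_iff_map_eq_zero]
    intro x hx
    obtain ⟨y, rfl⟩ := (Algebra.H1Cotangent.exact_δ_mapBaseChange k A Q x).1 hx
    rw [Subsingleton.elim y 0, map_zero]
  obtain ⟨l, hl⟩ := Module.projective_lifting_property (KaehlerDifferential.map k A Q Q) LinearMap.id
    (map_surjective k A Q)
  obtain ⟨e, -⟩ := (exact_mapBaseChange_map k A Q).splitSurjectiveEquiv hinj ⟨l, hl⟩
  have h1 := congrFun (Module.rankAtStalk_eq_of_equiv e) q
  rw [Module.rankAtStalk_prod, Pi.add_apply, Module.rankAtStalk_baseChange] at h1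
  exact h1

variable {A} {I : Ideal A}

/-- A complete intersection cut out by equations with dual derivations is smooth, with the expected rank. -/
theorem smooth_of_dual [Algebra.Smooth k A] {ι : Type*} [Fintype ι] [DecidableEq ι] (h : ι → A)
    (hI : I = Ideal.span (Set.range h)) (φ : ι → (Ω[A⁄k] →ₗ[A] A))
    (hφ : ∀ i l, φ i (D k A (h l)) = if i = l then 1 else 0) :
    Algebra.Smooth k (A ⧸ I) ∧ ∀ q : PrimeSpectrum (A ⧸ I),
      Module.rankAtStalk (Ω[A⁄k]) (q.comap (algebraMap A (A ⧸ I))) =
        Fintype.card ι + Module.rankAtStalk (Ω[(A ⧸ I)⁄k]) q := by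
  have hsurj : Function.Surjective (algebraMap A (A ⧸ I)) := Ideal.Quotient.mk_surjective
  let J := RingHom.ker (algebraMap A (A ⧸ I))
  have hJ : J = Ideal.span (Set.range h) := (Ideal.mk_ker (I := I)).trans hI
  have hmem : ∀ l, h l ∈ J := fun l => hJ.symm ▸ Ideal.subset_span ⟨l, rfl⟩
  let hh : ι → J.Cotangent := fun l => J.toCotangent ⟨h l, hmem l⟩
  let φQ : ((A ⧸ I) ⊗[A] Ω[A⁄k]) →ₗ[A ⧸ I] (ι → A ⧸ I) :=
    LinearMap.pi fun i => LinearMap.liftBaseChange (A ⧸ I) ((Algebra.linearMap A (A ⧸ I)) ∘ₗ φ i)
  have hφQ : ∀ l, φQ (1 ⊗ₜ D k A (h l)) = Pi.single l 1 := fun l => by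
    ext i
    simp [φQ, hφ, Pi.single_apply]
  have hkill : ∀ (i : ι), ∀ x ∈ I, x • hh i = 0 := fun i x hx => by
    rw [← map_smul, Ideal.toCotangent_eq_zero, pow_two]
    exact Ideal.mul_mem_mul (show x ∈ J by rw [hJ, ← hI]; exact hx) (hmem i)
  have hgen : ∀ z : J.Cotangent, ∃ c : ι → A, z = ∑ l, c l • hh l := fun z => by
    obtain ⟨⟨y, hy⟩, rfl⟩ := Ideal.toCotangent_surjective _ z
    obtain ⟨c, hc⟩ := (Submodule.mem_span_range_iff_exists_fun A).1 (show y ∈ Ideal.span (Set.range h) from hJ ▸ hy)
    refine ⟨c, ?_⟩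
    simp only [hh, ← map_smul, ← map_sum]
    congr 1
    exact Subtype.ext (by simp [← hc])
  refine ⟨?_, fun q => ?_⟩
  · haveI : Algebra.FinitePresentation k (A ⧸ I) := by
      classical
      exact Algebra.FinitePresentation.quotient ⟨Finset.univ.image h, by simp [hI]⟩
    suffices Algebra.FormallySmooth k (A ⧸ I) from ⟨this, inferInstance⟩
    refine (Algebra.FormallySmooth.iff_split_injection (R := k) (P := A) (A := A ⧸ I) hsurj).2 ?_
    let g : A ⧸ I →ₗ[A] Ω[A⁄k] →ₗ[A] J.Cotangent := Submodule.liftQ I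
      (LinearMap.toSpanSingleton A _ (∑ i, (φ i).smulRight (hh i))) fun x hx => LinearMap.mem_ker.2 (by
        refine LinearMap.ext fun ω => ?_
        rw [LinearMap.toSpanSingleton_apply, LinearMap.smul_apply, LinearMap.sum_apply, Finset.smul_sum,
          LinearMap.zero_apply]
        exact Finset.sum_eq_zero fun i _ => by rw [LinearMap.smulRight_apply, smul_comm, hkill i x hx, smul_zero])
    refine ⟨TensorProduct.lift g, LinearMap.ext fun z => ?_⟩
    obtain ⟨c, rfl⟩ := hgen z
    simp only [map_sum, map_smul]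
    refine Finset.sum_congr rfl fun l _ => ?_
    rw [LinearMap.id_apply]
    congr 1
    rw [LinearMap.comp_apply, kerCotangentToTensor_toCotangent]
    show ((1 : A) • ∑ i, (φ i).smulRight (hh i)) (D k A (h l)) = hh l
    rw [one_smul, LinearMap.sum_apply]
    simp [hφ]
  · haveI : Nontrivial (A ⧸ I) := q.nontrivial
    have hker : ∀ x, mapBaseChange k A (A ⧸ I) x = 0 → ∃ c : ι → A ⧸ I, x = ∑ l, c l • (1 ⊗ₜ D k A (h l)) := by
      intro x hx
      obtain ⟨z, rfl⟩ := (exact_kerCotangentToTensor_mapBaseChange k A (A ⧸ I) hsurj x).1 hx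
      obtain ⟨c, rfl⟩ := hgen z
      refine ⟨fun l => algebraMap A _ (c l), ?_⟩
      simp only [map_sum, map_smul, IsScalarTower.algebraMap_smul]
      exact Finset.sum_congr rfl fun l _ => congrArg _ (kerCotangentToTensor_toCotangent k A (A ⧸ I) _)
    let ψ := φQ.prod (mapBaseChange k A (A ⧸ I))
    have hbij : Function.Bijective ψ := by
      refine ⟨(injective_iff_map_eq_zero _).2 fun x hx => ?_, fun ⟨c, ω⟩ => ?_⟩
      · obtain ⟨c, rfl⟩ := hker x (congrArg Prod.snd hx)
        have h0 : φQ (∑ l, c l • (1 ⊗ₜ D k A (h l))) = 0 := congrArg Prod.fst hx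
        rw [map_sum] at h0
        simp only [map_smul, hφQ] at h0
        have : c = 0 := by
          funext i
          simpa [Finset.sum_apply, Pi.single_apply] using congrFun h0 i
        simp [this]
      · obtain ⟨x, hx⟩ := mapBaseChange_surjective k A (A ⧸ I) hsurj ω
        refine ⟨x + ∑ l, (c l - φQ x l) • (1 ⊗ₜ D k A (h l)), Prod.ext ?_ ?_⟩
        · show φQ _ = c
          rw [map_add, map_sum]
          simp only [map_smul, hφQ]
          funext i
          simp [Finset.sum_apply, Pi.single_apply]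
        · show mapBaseChange k A (A ⧸ I) _ = ω
          rw [map_add, map_sum, hx]
          refine add_eq_left.2 (Finset.sum_eq_zero fun l _ => ?_)
          rw [map_smul, mapBaseChange_tmul, one_smul, map_D]
          have : algebraMap A (A ⧸ I) (h l) = 0 := RingHom.mem_ker.1 (hmem l)
          rw [this, map_zero, smul_zero]
    haveI : Algebra.FinitePresentation k (A ⧸ I) := by
      classical
      exact Algebra.FinitePresentation.quotient ⟨Finset.univ.image h, by simp [hI]⟩
    let e := LinearEquiv.ofBijective ψ hbij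
    haveI : Module.Projective (A ⧸ I) (Ω[(A ⧸ I)⁄k]) :=
      Module.Projective.of_split ((e.symm.toLinearMap) ∘ₗ LinearMap.inr _ _ _)
        (mapBaseChange k A (A ⧸ I)) (LinearMap.ext fun ω => by
          have := congrArg Prod.snd (e.apply_symm_apply (0, ω))
          exact this)
    have h1 := congrFun (Module.rankAtStalk_eq_of_equiv e) q
    rw [Module.rankAtStalk_prod, Pi.add_apply, Module.rankAtStalk_baseChange,
      Module.rankAtStalk_eq_finrank_of_free (M := ι → A ⧸ I), Pi.natCast_apply, Module.finrank_pi] at h1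
    exact h1

end Groth.L24.Degen
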