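import Groth.Prelude.Def_CAlgX
import Mathlib.LinearAlgebra.Matrix.SchurComplement
import Mathlib.LinearAlgebra.Matrix.Adjugate
import Mathlib.Data.Matrix.ColumnRowPartitioned
import Mathlib.RingTheory.Ideal.Quotient.Operations

/-!
# Minors and Schur complements
-/

set_option autoImplicit false
set_option backward.isDefEq.respectTransparency.types false

universe u

open Matrix

namespace Groth.L24.Degen

variable {T : Type u} [CommRing T] {r p q : ℕ}

/-- The Schur complement of the top left block, times its determinant. -/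
def schur (M : Matrix (Fin r ⊕ Fin p) (Fin r ⊕ Fin q) T) : Matrix (Fin p) (Fin q) T :=
  M.toBlocks₁₁.det • M.toBlocks₂₂ - M.toBlocks₂₁ * M.toBlocks₁₁.adjugate * M.toBlocks₁₂

theorem schur_map {T' : Type u} [CommRing T'] (g : T →+* T') (M : Matrix (Fin r ⊕ Fin p) (Fin r ⊕ Fin q) T) :
    schur (M.map g) = (schur M).map g := by
  have h11 : (M.map g).toBlocks₁₁ = g.mapMatrix M.toBlocks₁₁ := rfl
  have h12 : (M.map g).toBlocks₁₂ = M.toBlocks₁₂.map g := rfl
  have h21 : (M.map g).toBlocks₂₁ = M.toBlocks₂₁.map g := rfl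
  have h22 : (M.map g).toBlocks₂₂ = M.toBlocks₂₂.map g := rfl
  rw [schur, schur, h11, h12, h21, h22, ← RingHom.map_det, ← RingHom.map_adjugate, RingHom.mapMatrix_apply,
    Matrix.map_sub g (map_sub g), Matrix.map_mul, Matrix.map_mul]
  congr 1
  ext i j
  simp

/-- A product through fewer indices has vanishing determinant. -/
theorem det_mul_eq_zero {n : Type} [Fintype n] [DecidableEq n] (h : Fintype.card n = r + 1)
    (L : Matrix n (Fin r) T) (R : Matrix (Fin r) n T) : (L * R).det = 0 := by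
  have e : Fin r ⊕ Fin 1 ≃ n := (finSumFinEquiv).trans (Fintype.equivFinOfCardEq h).symm
  let L' : Matrix n n T := Matrix.of fun i j => Sum.elim (fun a => L i a) (fun _ => 0) (e.symm j)
  let R' : Matrix n n T := Matrix.of fun j i => Sum.elim (fun a => R a i) (fun _ => 0) (e.symm j)
  have hLR : L * R = L' * R' := by
    ext i j
    rw [Matrix.mul_apply, Matrix.mul_apply, ← e.sum_comp, Fintype.sum_sum_type]
    simp [L', R']
  rw [hLR, Matrix.det_mul, Matrix.det_eq_zero_of_column_eq_zero (A := L') (e (Sum.inr 0)) (fun i => by simp [L']),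
    zero_mul]

theorem minorIdeal_map {T' : Type u} [CommRing T'] (g : T →+* T') {I J : Type} [Fintype I] [Fintype J]
    (M : Matrix I J T) (s : ℕ) : CAlgX.minorIdeal (M.map g) s = (CAlgX.minorIdeal M s).map g := by
  rw [CAlgX.minorIdeal, CAlgX.minorIdeal, Ideal.map_span, ← Set.range_comp]
  congr 2
  funext fg
  rw [Function.comp_apply, RingHom.map_det]
  rfl

theorem minorIdeal_reindex {I J I' J' : Type} [Fintype I] [Fintype J] [Fintype I'] [Fintype J']
    (M : Matrix I J T) (σ : I' ≃ I) (τ : J' ≃ J) (s : ℕ) :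
    CAlgX.minorIdeal (M.submatrix σ τ) s = CAlgX.minorIdeal M s := by
  refine congrArg Ideal.span ((EquivLike.range_comp _
    ((Equiv.arrowCongr (Equiv.refl (Fin s)) σ).prodCongr (Equiv.arrowCongr (Equiv.refl (Fin s)) τ))).symm.trans ?_).symm
  rfl

/-- Where the corner is invertible, the minors of size `r + 1` are the entries of the Schur complement. -/
theorem minorIdeal_succ_eq (M : Matrix (Fin r ⊕ Fin p) (Fin r ⊕ Fin q) T) (hδ : IsUnit M.toBlocks₁₁.det) :
    CAlgX.minorIdeal M (r + 1) = Ideal.span (Set.range fun l : Fin p × Fin q => schur M l.1 l.2) := by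
  set B := M.toBlocks₁₁
  set δ := B.det
  obtain ⟨v, hv⟩ := hδ.exists_left_inv
  set Bi := v • B.adjugate
  have hB : Bi * B = 1 := by
    rw [Matrix.smul_mul, Matrix.adjugate_mul, smul_smul, hv, one_smul]
  have hS : ∀ i j, schur M i j = δ * M (Sum.inr i) (Sum.inr j) - (M.toBlocks₂₁ * B.adjugate * M.toBlocks₁₂) i j :=
    fun i j => rfl
  refine le_antisymm ?_ (Ideal.span_le.2 ?_)
  · set J := Ideal.span (Set.range fun l : Fin p × Fin q => schur M l.1 l.2)
    refine Ideal.span_le.2 ?_
    rintro _ ⟨⟨g, h⟩, rfl⟩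
    let L : Matrix (Fin r ⊕ Fin p) (Fin r) T := Matrix.fromRows 1 (M.toBlocks₂₁ * Bi)
    let R : Matrix (Fin r) (Fin r ⊕ Fin q) T := Matrix.fromCols B M.toBlocks₁₂
    have key : ∀ a b, Ideal.Quotient.mk J (M a b) = Ideal.Quotient.mk J ((L * R) a b) := by
      intro a b
      rw [Matrix.fromRows_mul_fromCols]
      rcases a with a | a <;> rcases b with b | b
      · rw [Matrix.fromBlocks_apply₁₁, Matrix.one_mul]; rfl
      · rw [Matrix.fromBlocks_apply₁₂, Matrix.one_mul]; rfl
      · rw [Matrix.fromBlocks_apply₂₁, Matrix.mul_assoc, hB, Matrix.mul_one]; rfl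
      · rw [Matrix.fromBlocks_apply₂₂, Ideal.Quotient.eq]
        have : M (Sum.inr a) (Sum.inr b) - (M.toBlocks₂₁ * Bi * M.toBlocks₁₂) a b = v * schur M a b := by
          rw [hS, Matrix.mul_smul, Matrix.smul_mul, Matrix.smul_apply, smul_eq_mul, mul_sub, ← mul_assoc, hv, one_mul]
        rw [this]
        exact Ideal.mul_mem_left _ _ (Ideal.subset_span ⟨(a, b), rfl⟩)
    rw [SetLike.mem_coe, ← Ideal.Quotient.eq_zero_iff_mem, RingHom.map_det]
    have : (Ideal.Quotient.mk J).mapMatrix (M.submatrix g h) =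
        (Ideal.Quotient.mk J).mapMatrix ((L * R).submatrix g h) := Matrix.ext fun i j => key (g i) (h j)
    rw [this, ← RingHom.map_det, Matrix.submatrix_mul L R g id h Function.bijective_id,
      det_mul_eq_zero (Fintype.card_fin _), map_zero]
  · rintro _ ⟨⟨i, j⟩, rfl⟩
    let e : Fin r ⊕ Fin 1 ≃ Fin (r + 1) := finSumFinEquiv
    let g : Fin (r + 1) → Fin r ⊕ Fin p := Sum.map id (fun _ => i) ∘ e.symm
    let h : Fin (r + 1) → Fin r ⊕ Fin q := Sum.map id (fun _ => j) ∘ e.symm
    have hmem : (M.submatrix g h).det ∈ CAlgX.minorIdeal M (r + 1) := Ideal.subset_span ⟨(g, h), rfl⟩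
    have hdet : (M.submatrix g h).det = schur M i j := by
      rw [← Matrix.det_submatrix_equiv_self e]
      have : (M.submatrix g h).submatrix e e = Matrix.fromBlocks B (M.toBlocks₁₂.submatrix id (fun _ : Fin 1 => j))
          (M.toBlocks₂₁.submatrix (fun _ : Fin 1 => i) id) (Matrix.of fun _ _ => M (Sum.inr i) (Sum.inr j)) := by
        ext a b
        rcases a with a | a <;> rcases b with b | b <;>
          simp [g, h, B, Matrix.toBlocks₁₁, Matrix.toBlocks₁₂, Matrix.toBlocks₂₁]
      rw [this]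
      letI : Invertible B := ⟨Bi, hB, by rw [Matrix.mul_smul, Matrix.mul_adjugate, smul_smul, hv, one_smul]⟩
      rw [Matrix.det_fromBlocks₁₁, Matrix.det_fin_one]
      show δ * (_ - _) = _
      rw [hS, mul_sub]
      congr 1
      show δ * (M.toBlocks₂₁.submatrix (fun _ : Fin 1 => i) id * Bi * M.toBlocks₁₂.submatrix id (fun _ : Fin 1 => j)) 0 0 = _
      rw [Matrix.mul_smul, Matrix.smul_mul, Matrix.smul_apply, smul_eq_mul, ← mul_assoc,
        show δ * v = 1 by rw [mul_comm]; exact hv, one_mul]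
      rfl
    show schur M i j ∈ CAlgX.minorIdeal M (r + 1)
    rw [← hdet]; exact hmem

end Groth.L24.Degen
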