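import Groth.Agent.L24.Degen.Chart

/-!
# Corners of maximal size and dimensions of strata of a linear family of matrices
-/

set_option autoImplicit false
set_option linter.style.haveILetI false
set_option backward.isDefEq.respectTransparency.types false
set_option backward.isDefEq.respectTransparency false

universe u

open CategoryTheory AlgebraicGeometry TopologicalSpace KaehlerDifferential

noncomputable section

namespace Groth.L24.Degen

/-- A bordered corner minor is an entry of the Schur complement. -/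
theorem det_border {T : Type u} [CommRing T] {r p q : ℕ} (M : Matrix (Fin r ⊕ Fin p) (Fin r ⊕ Fin q) T)
    (hδ : IsUnit M.toBlocks₁₁.det) (i : Fin p) (j : Fin q) :
    (M.submatrix (Sum.map id fun _ : Fin 1 => i) (Sum.map id fun _ : Fin 1 => j)).det = schur M i j := by
  set B := M.toBlocks₁₁
  set δ := B.det
  obtain ⟨v, hv⟩ := hδ.exists_left_inv
  set Bi := v • B.adjugate
  have hB : Bi * B = 1 := by rw [Matrix.smul_mul, Matrix.adjugate_mul, smul_smul, hv, one_smul]
  have : M.submatrix (Sum.map id fun _ : Fin 1 => i) (Sum.map id fun _ : Fin 1 => j) =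
      Matrix.fromBlocks B (M.toBlocks₁₂.submatrix id (fun _ : Fin 1 => j))
        (M.toBlocks₂₁.submatrix (fun _ : Fin 1 => i) id) (Matrix.of fun _ _ => M (Sum.inr i) (Sum.inr j)) := by
    ext a b
    rcases a with a | a <;> rcases b with b | b <;> simp [B, Matrix.toBlocks₁₁, Matrix.toBlocks₁₂, Matrix.toBlocks₂₁]
  rw [this]
  letI : Invertible B := ⟨Bi, hB, by rw [Matrix.mul_smul, Matrix.mul_adjugate, smul_smul, hv, one_smul]⟩
  rw [Matrix.det_fromBlocks₁₁, Matrix.det_fin_one]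
  show δ * (M (Sum.inr i) (Sum.inr j) - _) = δ * _ - _
  rw [mul_sub]
  congr 1
  show δ * (M.toBlocks₂₁.submatrix (fun _ : Fin 1 => i) id * Bi * M.toBlocks₁₂.submatrix id (fun _ : Fin 1 => j)) 0 0 = _
  rw [Matrix.mul_smul, Matrix.smul_mul, Matrix.smul_apply, smul_eq_mul, ← mul_assoc,
    show δ * v = 1 by rw [mul_comm]; exact hv, one_mul]
  rfl

/-- A maximal minor outside a prime through given columns: the bordered minors lie in the prime. -/
theorem exists_max_corner {R : Type u} [CommRing R] {e f : ℕ} (M : Matrix (Fin f) (Fin e) R) (P : Ideal R) [P.IsPrime]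
    (C : Finset (Fin e))
    (hC : ∃ (t : ℕ) (g : Fin t → Fin f) (h : Fin t → Fin e), (M.submatrix g h).det ∉ P ∧ ∀ c ∈ C, c ∈ Set.range h) :
    ∃ (r : ℕ) (_ : r ≤ f) (_ : r ≤ e) (σ : Fin r ⊕ Fin (f - r) ≃ Fin f) (τ : Fin r ⊕ Fin (e - r) ≃ Fin e),
      (M.submatrix σ τ).toBlocks₁₁.det ∉ P ∧ (∀ i j, schur (M.submatrix σ τ) i j ∈ P) ∧ ∀ j, τ (Sum.inr j) ∉ C := by
  classical
  let Good := fun t => ∃ (g : Fin t → Fin f) (h : Fin t → Fin e), (M.submatrix g h).det ∉ P ∧ ∀ c ∈ C, c ∈ Set.range h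
  have inj : ∀ t (g : Fin t → Fin f) (h : Fin t → Fin e), (M.submatrix g h).det ∉ P →
      Function.Injective g ∧ Function.Injective h := fun t g h hgh => by
    refine ⟨fun a b hab => ?_, fun a b hab => ?_⟩ <;> by_contra hne <;> refine hgh ?_
    · rw [Matrix.det_zero_of_row_eq hne (funext fun l => by simp [hab])]; exact P.zero_mem
    · rw [Matrix.det_zero_of_column_eq hne (fun l => by simp [hab])]; exact P.zero_mem
  obtain ⟨t₀, g₀, h₀, hd₀, hc₀⟩ := hC
  have hb : ∀ t, Good t → t ≤ e := fun t ⟨g, h, hd, _⟩ => by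
    simpa using Fintype.card_le_of_injective h (inj t g h hd).2
  let r := Nat.findGreatest Good e
  have hr : Good r := Nat.findGreatest_spec (hb t₀ ⟨g₀, h₀, hd₀, hc₀⟩) ⟨g₀, h₀, hd₀, hc₀⟩
  obtain ⟨g, h, hd, hc⟩ := hr
  have hre : r ≤ e := Nat.findGreatest_le e
  have hrf : r ≤ f := by simpa using Fintype.card_le_of_injective g (inj r g h hd).1
  obtain ⟨σ, hσ⟩ := exists_equiv_extend hrf g (inj r g h hd).1
  obtain ⟨τ, hτ⟩ := exists_equiv_extend hre h (inj r g h hd).2
  have h11 : (M.submatrix σ τ).toBlocks₁₁ = M.submatrix g h := by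
    ext a b
    simp [Matrix.toBlocks₁₁, hσ, hτ]
  refine ⟨r, hrf, hre, σ, τ, h11 ▸ hd, fun i j => ?_, fun j hj => ?_⟩
  · by_contra hij
    -- evaluate in the residue field
    let K := FractionRing (R ⧸ P)
    let π : R →+* K := (algebraMap (R ⧸ P) K).comp (Ideal.Quotient.mk P)
    have hπ : ∀ z, π z = 0 ↔ z ∈ P := fun z => by
      rw [RingHom.comp_apply, IsFractionRing.to_map_eq_zero_iff, Ideal.Quotient.eq_zero_iff_mem]
    let N := ((M.submatrix σ τ).map π)
    have hu : IsUnit N.toBlocks₁₁.det := by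
      have : N.toBlocks₁₁ = π.mapMatrix (M.submatrix σ τ).toBlocks₁₁ := rfl
      rw [this, ← RingHom.map_det, h11]
      exact isUnit_iff_ne_zero.2 fun h0 => hd ((hπ _).1 h0)
    let ε : Fin (r + 1) ≃ Fin r ⊕ Fin 1 := finSumFinEquiv.symm
    let g' : Fin (r + 1) → Fin f := fun a => σ (Sum.map id (fun _ => i) (ε a))
    let h' : Fin (r + 1) → Fin e := fun a => τ (Sum.map id (fun _ => j) (ε a))
    have hbig : (M.submatrix g' h').det ∉ P := fun hmem => hij ((hπ _).1 (by
      rw [show π (schur (M.submatrix σ τ) i j) = schur N i j by rw [schur_map]; rfl, ← det_border N hu,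
        ← (hπ _).2 hmem, RingHom.map_det, ← Matrix.det_submatrix_equiv_self ε]
      rfl))
    have hgood : Good (r + 1) := ⟨g', h', hbig, fun c hcC => by
      obtain ⟨a, rfl⟩ := hc c hcC
      exact ⟨ε.symm (Sum.inl a), by simp [h', hτ]⟩⟩
    have := Nat.le_findGreatest (hb _ hgood) hgood
    omega
  · obtain ⟨a, ha⟩ := hc _ hj
    rw [← hτ] at ha
    exact Sum.inl_ne_inr (τ.injective ha)

/-- The stratum of a general member of a linear family of matrices. -/
theorem exists_poly_stratum {k : Type u} [Field k] [CharZero k] {X : Scheme.{u}} (s : X ⟶ Spec (CommRingCat.of k))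
    [IsIntegral X] [Smooth s] (n : ℕ) (hdim : topologicalKrullDim X = n) {U : X.Opens} (hU : IsAffineOpen U)
    {r p q m : ℕ} (Mf : Fin m → Matrix (Fin r ⊕ Fin p) (Fin r ⊕ Fin q) Γ(X, U))
    (hspan : ∀ i j, Matrix.single (Sum.inr i : Fin r ⊕ Fin p) (Sum.inr j : Fin r ⊕ Fin q) (1 : Γ(X, U)) ∈
      Submodule.span Γ(X, U) (Set.range Mf)) :
    ∃ g : MvPolynomial (Fin m) k, g ≠ 0 ∧ ∀ w : Fin m → k, MvPolynomial.eval w g ≠ 0 →
      ∀ M : Matrix (Fin r ⊕ Fin p) (Fin r ⊕ Fin q) Γ(X, U), M = ∑ l, sec s U (w l) • Mf l →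
      ∃ R : Set X, IsLocallyClosed R ∧
        (∀ y (hy : y ∈ U), M.toBlocks₁₁.det ∉ (hU.primeIdealOf ⟨y, hy⟩).asIdeal →
          (∀ i j, schur M i j ∈ (hU.primeIdealOf ⟨y, hy⟩).asIdeal) → y ∈ R) ∧
        topologicalKrullDim R ≤ ((n - p * q : ℕ) : WithBot ℕ∞) ∧ (R.Nonempty → p * q ≤ n) := by
  letI := (sec s U).toAlgebra
  obtain ⟨hsm, hn⟩ := smooth_sec s n hdim hU
  haveI := hsm
  obtain ⟨g, hg0, hg⟩ := exists_poly_memQ Mf hspan hn
  refine ⟨g, hg0, fun w hw M hM => ?_⟩
  obtain ⟨h1, h2⟩ := hg w hw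
  haveI := h1
  have hMw : memM Mf w = M := hM.symm
  let L := Localization.Away (memM Mf w).toBlocks₁₁.det
  let j₁ : Spec (CommRingCat.of (MemQ Mf w)) ⟶ Spec (CommRingCat.of L) :=
    Spec.map (CommRingCat.ofHom (algebraMap L (MemQ Mf w)))
  let j₂ : Spec (CommRingCat.of L) ⟶ Spec Γ(X, U) := Spec.map (CommRingCat.ofHom (algebraMap Γ(X, U) L))
  haveI : IsClosedImmersion j₁ := IsClosedImmersion.spec_of_surjective _ Ideal.Quotient.mk_surjective
  haveI : IsOpenImmersion j₂ := IsOpenImmersion.of_isLocalization (memM Mf w).toBlocks₁₁.det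
  let j := j₁ ≫ j₂ ≫ hU.fromSpec
  have hlc : IsLocallyClosed (Set.range j) := by
    obtain ⟨O, hO, hrange⟩ : ∃ O : Set X, IsOpen O ∧ Set.range (j₂ ≫ hU.fromSpec) = O := ⟨_, (j₂ ≫ hU.fromSpec).isOpenEmbedding.isOpen_range, rfl⟩
    have h3 : Set.range j = (j₂ ≫ hU.fromSpec) '' Set.range j₁ := by rw [← Set.range_comp]; rfl
    rw [h3]
    exact j₁.isClosedEmbedding.isClosed_range.isLocallyClosed.image
      (j₂ ≫ hU.fromSpec).isOpenEmbedding.isInducing (hrange ▸ hO.isLocallyClosed)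
  haveI : SmoothOfRelativeDimension (n - p * q) (Spec.map (CommRingCat.ofHom (algebraMap k (MemQ Mf w)))) :=
    smoothOfRelativeDimension_spec fun x => by have := h2 x; omega
  refine ⟨Set.range j, hlc, fun y hy hδ hs => ?_, ?_, fun ⟨_, x, _⟩ => by have := h2 x; omega⟩
  · subst hMw
    set P := hU.primeIdealOf ⟨y, hy⟩
    obtain ⟨P', hP'⟩ : P ∈ Set.range (PrimeSpectrum.comap (algebraMap Γ(X, U) L)) := by
      rw [PrimeSpectrum.localization_away_comap_range L (memM Mf w).toBlocks₁₁.det]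
      exact hδ
    obtain ⟨t, ht⟩ : P' ∈ Set.range (PrimeSpectrum.comap (Ideal.Quotient.mk (Ideal.span
        (Set.range fun l : Fin p × Fin q => algebraMap Γ(X, U) L (schur (memM Mf w) l.1 l.2))))) := by
      rw [range_comap_of_surjective _ _ Ideal.Quotient.mk_surjective, Ideal.mk_ker,
        PrimeSpectrum.mem_zeroLocus, SetLike.coe_subset_coe, Ideal.span_le]
      rintro _ ⟨l, rfl⟩
      have := hs l.1 l.2
      rw [← hP'] at this
      exact this
    refine ⟨t, ?_⟩
    show hU.fromSpec (j₂ (j₁ t)) = y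
    have : j₂ (j₁ t) = P := by
      rw [← hP', ← ht]
      rfl
    rw [this]
    exact hU.fromSpec_primeIdealOf _
  · haveI : IsImmersion j := inferInstance
    rw [Groth.L22.SchemeDim.topologicalKrullDim_eq_of_isEmbedding j.isEmbedding rfl]
    exact Groth.L22.Adjunction.topologicalKrullDim_le_relDim (Spec.map (CommRingCat.ofHom (algebraMap k (MemQ Mf w)))) (n - p * q)

end Groth.L24.Degen
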