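import Groth.Agent.L24.Degen.Schur
import Groth.Agent.L24.Degen.Rank
import Mathlib.RingTheory.Derivation.Basic
import Mathlib.Algebra.MvPolynomial.Derivation
import Mathlib.RingTheory.Smooth.StandardSmoothOfFree

/-!
# The universal rank locus of an affine linear family of matrices
-/

set_option autoImplicit false
set_option linter.style.haveILetI false
set_option backward.isDefEq.respectTransparency false

universe u

open TensorProduct KaehlerDifferential MvPolynomial

noncomputable section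

namespace Groth.L24.Degen

variable {k A : Type u} [CommRing k] [CommRing A] [Algebra k A] {m r p q : ℕ}
variable (Mf : Fin m → Matrix (Fin r ⊕ Fin p) (Fin r ⊕ Fin q) A)

/-- The universal member of the family. -/
def univM : Matrix (Fin r ⊕ Fin p) (Fin r ⊕ Fin q) (MvPolynomial (Fin m) A) :=
  Matrix.of fun a b => ∑ j, C (Mf j a b) * X j

/-- The universal corner minor. -/
def univδ : MvPolynomial (Fin m) A := (univM Mf).toBlocks₁₁.det

/-- The ring where the corner minor is invertible. -/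
abbrev UnivLoc : Type u := Localization.Away (univδ Mf)

/-- The equations of the rank locus. -/
def univEq (l : Fin p × Fin q) : UnivLoc Mf := algebraMap (MvPolynomial (Fin m) A) _ (schur (univM Mf) l.1 l.2)

/-- The universal rank locus, on a chart. -/
abbrev UnivQ : Type u := UnivLoc Mf ⧸ Ideal.span (Set.range (univEq Mf))

theorem exists_derivations (hspan : ∀ i j, Matrix.single (Sum.inr i : Fin r ⊕ Fin p) (Sum.inr j : Fin r ⊕ Fin q) (1 : A) ∈ Submodule.span A (Set.range Mf)) (i : Fin p × Fin q) :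
    ∃ Δ : Derivation A (MvPolynomial (Fin m) A) (MvPolynomial (Fin m) A),
      ∀ l : Fin p × Fin q, Δ (schur (univM Mf) l.1 l.2) = if i = l then univδ Mf else 0 := by
  classical
  obtain ⟨s, hs⟩ := (Submodule.mem_span_range_iff_exists_fun A).1 (hspan i.1 i.2)
  let Δ : Derivation A (MvPolynomial (Fin m) A) (MvPolynomial (Fin m) A) := mkDerivation A fun j => C (s j)
  refine ⟨Δ, fun l => ?_⟩
  have hM : ∀ a b, Δ (univM Mf a b) =
      C (Matrix.single (Sum.inr i.1 : Fin r ⊕ Fin p) (Sum.inr i.2 : Fin r ⊕ Fin q) (1 : A) a b) := fun a b => by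
    rw [← hs, Matrix.sum_apply, map_sum]
    simp only [univM, Matrix.of_apply, map_sum, Derivation.leibniz, smul_eq_mul, Δ, mkDerivation_X,
      Matrix.smul_apply, derivation_C, mul_zero, add_zero]
    exact Finset.sum_congr rfl fun j _ => by rw [map_mul, mul_comm]
  let S₀ : Subring (MvPolynomial (Fin m) A) :=
    { carrier := {x | Δ x = 0}
      mul_mem' := fun {x y} hx hy => by simp only [Set.mem_setOf_eq] at *; rw [Derivation.leibniz, hx, hy]; simp
      one_mem' := Derivation.map_one_eq_zero Δ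
      add_mem' := fun {x y} hx hy => by simp only [Set.mem_setOf_eq] at *; rw [map_add, hx, hy, add_zero]
      zero_mem' := map_zero Δ
      neg_mem' := fun {x} hx => by simp only [Set.mem_setOf_eq] at *; rw [map_neg, hx, neg_zero] }
  have h11 : ∀ a b, (univM Mf).toBlocks₁₁ a b ∈ S₀ := fun a b => by
    show Δ (univM Mf (Sum.inl a) (Sum.inl b)) = 0
    rw [hM]; simp
  have h12 : ∀ a b, (univM Mf).toBlocks₁₂ a b ∈ S₀ := fun a b => by
    show Δ (univM Mf (Sum.inl a) (Sum.inr b)) = 0
    rw [hM]; simp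
  have h21 : ∀ a b, (univM Mf).toBlocks₂₁ a b ∈ S₀ := fun a b => by
    show Δ (univM Mf (Sum.inr a) (Sum.inl b)) = 0
    rw [hM]; simp
  let B₀ : Matrix (Fin r) (Fin r) S₀ := Matrix.of fun a b => ⟨_, h11 a b⟩
  have hB₀ : S₀.subtype.mapMatrix B₀ = (univM Mf).toBlocks₁₁ := rfl
  have hδ : univδ Mf ∈ S₀ := by
    rw [univδ, ← hB₀, ← RingHom.map_det]; exact SetLike.coe_mem _
  have hadj : ∀ a b, (univM Mf).toBlocks₁₁.adjugate a b ∈ S₀ := fun a b => by
    rw [← hB₀, ← RingHom.map_adjugate]; exact SetLike.coe_mem _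
  have hprod : ((univM Mf).toBlocks₂₁ * (univM Mf).toBlocks₁₁.adjugate * (univM Mf).toBlocks₁₂) l.1 l.2 ∈ S₀ := by
    rw [Matrix.mul_apply]
    refine Subring.sum_mem _ fun b _ => S₀.mul_mem ?_ (h12 _ _)
    rw [Matrix.mul_apply]
    exact Subring.sum_mem _ fun a _ => S₀.mul_mem (h21 _ _) (hadj _ _)
  have hδ' : Δ (univδ Mf) = 0 := hδ
  have hprod' : Δ (((univM Mf).toBlocks₂₁ * (univM Mf).toBlocks₁₁.adjugate * (univM Mf).toBlocks₁₂) l.1 l.2) = 0 := hprod
  show Δ (univδ Mf * univM Mf (Sum.inr l.1) (Sum.inr l.2) -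
    ((univM Mf).toBlocks₂₁ * (univM Mf).toBlocks₁₁.adjugate * (univM Mf).toBlocks₁₂) l.1 l.2) = _
  rw [map_sub, hprod', Derivation.leibniz, hδ', hM, smul_zero, add_zero, sub_zero, smul_eq_mul]
  by_cases hil : i = l
  · subst hil; simp
  · rw [if_neg hil, Matrix.single_apply, if_neg, map_zero, mul_zero]
    exact fun h => hil (Prod.ext (Sum.inr_injective h.1) (Sum.inr_injective h.2))

variable [Algebra.Smooth k A]

theorem smooth_univQ (hspan : ∀ i j, Matrix.single (Sum.inr i : Fin r ⊕ Fin p) (Sum.inr j : Fin r ⊕ Fin q) (1 : A) ∈ Submodule.span A (Set.range Mf)) {n : ℕ}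
    (hn : ∀ x : PrimeSpectrum A, Module.rankAtStalk (Ω[A⁄k]) x = n) :
    Algebra.Smooth k (UnivQ Mf) ∧
      ∀ x : PrimeSpectrum (UnivQ Mf), p * q + Module.rankAtStalk (Ω[(UnivQ Mf)⁄k]) x = n + m := by
  classical
  choose Δ hΔ using exists_derivations Mf hspan
  haveI : Algebra.Smooth A (MvPolynomial (Fin m) A) := ⟨inferInstance, inferInstance⟩
  haveI : Algebra.Smooth (MvPolynomial (Fin m) A) (UnivLoc Mf) :=
    Algebra.Smooth.of_isLocalization_Away (univδ Mf)
  haveI : Algebra.Smooth A (UnivLoc Mf) := Algebra.Smooth.comp A (MvPolynomial (Fin m) A) _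
  haveI : Algebra.Smooth k (UnivLoc Mf) := Algebra.Smooth.comp k A _
  let e := tensorKaehlerEquivOfFormallyEtale A (MvPolynomial (Fin m) A) (UnivLoc Mf)
  have hu : IsUnit (algebraMap (MvPolynomial (Fin m) A) (UnivLoc Mf) (univδ Mf)) :=
    IsLocalization.Away.algebraMap_isUnit _
  obtain ⟨v, hv⟩ := hu.exists_left_inv
  let φ : Fin p × Fin q → (Ω[(UnivLoc Mf)⁄k] →ₗ[UnivLoc Mf] UnivLoc Mf) := fun i =>
    v • ((LinearMap.liftBaseChange (UnivLoc Mf)
        (Algebra.linearMap (MvPolynomial (Fin m) A) (UnivLoc Mf) ∘ₗ (Δ i).liftKaehlerDifferential)) ∘ₗ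
      e.symm.toLinearMap ∘ₗ KaehlerDifferential.map k A (UnivLoc Mf) (UnivLoc Mf))
  have hφ : ∀ i l, φ i (D k _ (univEq Mf l)) = if i = l then 1 else 0 := fun i l => by
    simp only [φ, LinearMap.smul_apply, LinearMap.comp_apply, LinearEquiv.coe_coe, map_D, univEq,
      Algebra.algebraMap_self, RingHom.id_apply]
    erw [tensorKaehlerEquivOfFormallyEtale_symm_D_algebraMap]
    rw [LinearMap.liftBaseChange_tmul, one_smul, LinearMap.comp_apply, Derivation.liftKaehlerDifferential_comp_D,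
      hΔ, Algebra.linearMap_apply, smul_eq_mul]
    split_ifs with h
    · exact hv
    · rw [map_zero, mul_zero]
  obtain ⟨h1, h2⟩ := smooth_of_dual k (univEq Mf) rfl φ hφ
  refine ⟨h1, fun x => ?_⟩
  have h3 := h2 x
  rw [rank_tower k A (UnivLoc Mf), hn, Fintype.card_prod, Fintype.card_fin, Fintype.card_fin] at h3
  haveI : Nontrivial (UnivLoc Mf) := (x.comap (algebraMap (UnivLoc Mf) (UnivQ Mf))).nontrivial
  haveI : Nontrivial A := (algebraMap A (UnivLoc Mf)).domain_nontrivial
  have h4 : Module.rankAtStalk (Ω[(UnivLoc Mf)⁄A]) (x.comap (algebraMap (UnivLoc Mf) (UnivQ Mf))) = m := by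
    rw [← Module.rankAtStalk_eq_of_equiv e, Module.rankAtStalk_baseChange,
      Module.rankAtStalk_eq_of_equiv (KaehlerDifferential.mvPolynomialBasis A (Fin m)).repr,
      Module.rankAtStalk_eq_finrank_of_free, Pi.natCast_apply, Module.finrank_finsupp_self, Fintype.card_fin]
    rfl
  rw [h4] at h3
  exact h3.symm

end Groth.L24.Degen
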